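import Cfsg.Agent.Lib.LocalEvenB.TICount.Structure
import Mathlib.GroupTheory.Index
import Mathlib.SetTheory.Cardinal.Finite

/-!
# Orders in a trivial intersection configuration
-/

set_option autoImplicit false

namespace CfsgLib.LocalEvenB.TICount

open Subgroup Cfsg

variable {G : Type*} [Group G] [Finite G] {M : Subgroup G} {z : G}

local notation "N" => Subgroup.normalizer (M : Set G)
local notation "D" => cD M z

namespace Setup

variable (h : Setup M z)
include h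

theorem card_N : Nat.card N = Nat.card M * Nat.card D := by
  rw [← Nat.card_prod]
  symm
  refine Nat.card_eq_of_bijective
    (fun p : M × D => (⟨(p.1 : G) * (p.2 : G), mul_mem (Subgroup.le_normalizer p.1.2) (Subgroup.mem_inf.1 p.2.2).1⟩ : N))
    ⟨?_, ?_⟩
  · rintro ⟨a, b⟩ ⟨a', b'⟩ e
    have e' : (a : G) * b = a' * b' := congrArg Subtype.val e
    have e2 : (a' : G)⁻¹ * a = b' * (b : G)⁻¹ := by
      calc (a' : G)⁻¹ * a = (a' : G)⁻¹ * (a * b) * (b : G)⁻¹ := by group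
        _ = _ := by rw [e']; group
    have h1 := h.inf_eq_one (mul_mem (inv_mem a'.2) a.2) (e2 ▸ mul_mem b'.2 (inv_mem b.2))
    have h2 : (a : G) = a' := (inv_mul_eq_one.1 h1).symm
    rw [h2] at e'
    exact Prod.ext (Subtype.ext h2) (Subtype.ext (mul_left_cancel e'))
  · rintro ⟨n, hn⟩
    obtain ⟨m, hm, d, hd, rfl⟩ := h.dec hn
    exact ⟨⟨⟨m, hm⟩, ⟨d, hd⟩⟩, rfl⟩

theorem commute_of_mem_D {d : G} (hd : d ∈ D) : Commute d z :=
  Subgroup.mem_centralizer_singleton_iff.1 (Subgroup.mem_inf.1 hd).2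

variable (hF : Full M)
include hF

/-- Elements of `C(z)` outside `N` form a set closed under multiplication by `D`. -/
theorem mul_D_outside {x d : G} (hx : Commute x z) (hxN : x ∉ N) (hd : d ∈ D) :
    Commute (x * d) z ∧ x * d ∉ N :=
  ⟨hx.mul_left (commute_of_mem_D h hd), fun hmem => hxN (by
    simpa using mul_mem hmem (inv_mem (Subgroup.mem_inf.1 hd).1))⟩

theorem card_G :
    Nat.card G = Nat.card M * Nat.card D +
      Nat.card M * Nat.card {x : G // Commute x z ∧ x ∉ N} * Nat.card M := by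
  classical
  rw [← card_N h, ← Nat.card_prod, ← Nat.card_prod, ← Nat.card_sum]
  symm
  let f : N ⊕ ((M × {x : G // Commute x z ∧ x ∉ N}) × M) → G :=
    Sum.elim (fun n => (n : G)) (fun t => (t.1.1 : G) * (t.1.2 : G) * (t.2 : G))
  have hout : ∀ t : (M × {x : G // Commute x z ∧ x ∉ N}) × M,
      (t.1.1 : G) * (t.1.2 : G) * (t.2 : G) ∉ N := fun t hmem => t.1.2.2.2 (by
    have := mul_mem (mul_mem (inv_mem (Subgroup.le_normalizer t.1.1.2)) hmem)
      (inv_mem (Subgroup.le_normalizer t.2.2))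
    simpa [mul_assoc] using this)
  refine Nat.card_eq_of_bijective f ⟨?_, ?_⟩
  · rintro (⟨n, hn⟩ | t) (⟨n', hn'⟩ | t') e <;> simp only [f, Sum.elim_inl, Sum.elim_inr] at e
    · exact congrArg Sum.inl (Subtype.ext e)
    · exact absurd (e ▸ hn) (hout t')
    · exact absurd (e ▸ hn') (hout t)
    · obtain ⟨e1, e2, e3⟩ := decompose_unique h hF t.1.2.2.1 t.1.2.2.2 t'.1.2.2.1 t'.1.2.2.2
        t.1.1.2 t'.1.1.2 t.2.2 t'.2.2 e
      exact congrArg Sum.inr (Prod.ext (Prod.ext (Subtype.ext e1) (Subtype.ext e2)) (Subtype.ext e3))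
  · intro g
    by_cases hg : g ∈ N
    · exact ⟨Sum.inl ⟨g, hg⟩, rfl⟩
    · obtain ⟨m, hm, x, hx, hxN, m', hm', rfl⟩ := decompose h hF hg
      exact ⟨Sum.inr ((⟨m, hm⟩, ⟨x, hx, hxN⟩), ⟨m', hm'⟩), rfl⟩

omit hF in
theorem card_centralizer_z :
    Nat.card (Subgroup.centralizer ({z} : Set G)) =
      Nat.card D + Nat.card {x : G // Commute x z ∧ x ∉ N} := by
  classical
  rw [← Nat.card_sum]
  symm
  let f : D ⊕ {x : G // Commute x z ∧ x ∉ N} → Subgroup.centralizer ({z} : Set G) :=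
    Sum.elim (fun d => ⟨d, (Subgroup.mem_inf.1 d.2).2⟩)
      (fun x => ⟨x, Subgroup.mem_centralizer_singleton_iff.2 x.2.1.eq⟩)
  refine Nat.card_eq_of_bijective f ⟨?_, ?_⟩
  · rintro (⟨d, hd⟩ | x) (⟨d', hd'⟩ | x') e <;>
      simp only [f, Sum.elim_inl, Sum.elim_inr, Subtype.mk.injEq] at e
    · exact congrArg Sum.inl (Subtype.ext e)
    · exact absurd (e ▸ (Subgroup.mem_inf.1 hd).1) x'.2.2
    · exact absurd (e.symm ▸ (Subgroup.mem_inf.1 hd').1) x.2.2
    · exact congrArg Sum.inr (Subtype.ext e)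
  · rintro ⟨x, hx⟩
    by_cases hxN : x ∈ N
    · exact ⟨Sum.inl ⟨x, Subgroup.mem_inf.2 ⟨hxN, hx⟩⟩, rfl⟩
    · exact ⟨Sum.inr ⟨x, Subgroup.mem_centralizer_singleton_iff.1 hx, hxN⟩, rfl⟩

variable (hnn : Subgroup.normalizer (M : Set G) ≠ ⊤)
include hnn

/-- Either `C(z) = D ∪ x₀ D`, or `D = ⟨z⟩` and `C(z)` has exponent two. -/
theorem centralizer_cases :
    (∃ x₀, Commute x₀ z ∧ x₀ ∉ N ∧ (∀ x, Commute x z → x ∉ N → ∃ d ∈ D, x = x₀ * d) ∧
      Nat.card {x : G // Commute x z ∧ x ∉ N} = Nat.card D) ∨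
    ((∀ d ∈ D, d = 1 ∨ d = z) ∧ ∀ x, Commute x z → x * x = 1) := by
  by_cases hall : ∀ x y, Commute x z → x ∉ N → Commute y z → y ∉ N → x * y ∈ D
  · left
    obtain ⟨x₀, hx₀2, hx₀N, hx₀⟩ := exists_outside h hF hnn
    have hcov : ∀ x, Commute x z → x ∉ N → ∃ d ∈ D, x = x₀ * d := fun x hx hxN =>
      ⟨x₀ * x, hall x₀ x hx₀ hx₀N hx hxN, by rw [← mul_assoc, hx₀2, one_mul]⟩
    refine ⟨x₀, hx₀, hx₀N, hcov, ?_⟩
    symm
    refine Nat.card_eq_of_bijective
      (fun d : D => (⟨x₀ * d, mul_D_outside h hF hx₀ hx₀N d.2⟩ : {x : G // Commute x z ∧ x ∉ N})) ⟨?_, ?_⟩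
    · intro d d' e
      exact Subtype.ext (mul_left_cancel (congrArg Subtype.val e))
    · rintro ⟨x, hx, hxN⟩
      obtain ⟨d, hd, rfl⟩ := hcov x hx hxN
      exact ⟨⟨d, hd⟩, rfl⟩
  · right
    push Not at hall
    obtain ⟨x, y, hx, hxN, hy, hyN, hxy⟩ := hall
    have hxyN : x * y ∉ N := fun hmem =>
      hxy (Subgroup.mem_inf.2 ⟨hmem, Subgroup.mem_centralizer_singleton_iff.2 (hx.mul_left hy).eq⟩)
    have hD : ∀ d ∈ D, d = 1 ∨ d = z := fun d hd => by
      refine h.invol_D hd ?_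
      have hxyc := hx.mul_left hy
      have e1 := invol_inverts_D h hF (sq_of_commute h hF hxyc hxyN) hxyN hxyc hd
      have e2 := invol_inverts_D h hF (sq_of_commute h hF hx hxN) hxN hx (inv_mem hd)
      have e3 := invol_inverts_D h hF (sq_of_commute h hF hy hyN) hyN hy hd
      have hsq := sq_of_commute h hF hxyc hxyN
      have e4 : x * y * d * (x * y) = d := by
        rw [show x * y * d * (x * y) = x * (y * d * y) * x * (x⁻¹ * y⁻¹ * x * y) by group, e3, e2,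
          inv_inv, inv_of_sq (sq_of_commute h hF hx hxN), inv_of_sq (sq_of_commute h hF hy hyN),
          show x * y * x * y = (x * y) * (x * y) by group, hsq, mul_one]
      rw [e4] at e1
      nth_rewrite 2 [e1]
      exact mul_inv_cancel d
    refine ⟨hD, fun v hv => ?_⟩
    by_cases hvN : v ∈ N
    · rcases hD v (Subgroup.mem_inf.2 ⟨hvN, Subgroup.mem_centralizer_singleton_iff.2 hv.eq⟩) with rfl | rfl
      · exact one_mul 1
      · exact h.z_sq
    · exact sq_of_commute h hF hv hvN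

end Setup

end CfsgLib.LocalEvenB.TICount
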