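import Cfsg.Agent.Lib.LocalEvenB.TICount.Counting
import Cfsg.Agent.Lib.LocalEvenB.BaerSuzuki
import Cfsg.Agent.Lib.TwoGroups.ElemCentMoebius
import Cfsg.Agent.Lib.TwoGroups.Recognition
import Cfsg.Agent.Lib.CharDegree.NoDiv.Counting
import Cfsg.Agent.Lib.Classical.SL2Structure
import Cfsg.Agent.Lib.Recog.PrimeGraph
import Cfsg.Agent.Lib.Core.Cores
import Cfsg.Prelude.Def_Transfer
import Mathlib.GroupTheory.SpecificGroups.ZGroup

/-!
# The dihedral case: `PSL₂(2 ^ e)` or an elementary abelian regular normal subgroup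
-/

set_option autoImplicit false

namespace CfsgLib.LocalEvenB.TICount

open Subgroup Cfsg

/-- The centralizer of `z`. -/
abbrev cX {G : Type*} [Group G] (z : G) : Subgroup G := Subgroup.centralizer ({z} : Set G)

variable {G : Type*} [Group G] [Finite G] {M : Subgroup G} {z : G}

local notation "N" => Subgroup.normalizer (M : Set G)
local notation "D" => cD M z
local notation "X" => cX z

/-- The data of the dihedral case. -/
structure DihCase (M : Subgroup G) (z : G) : Prop where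
  setup : Setup M z
  full : Full M
  nn : Subgroup.normalizer (M : Set G) ≠ ⊤
  two : ∀ d ∈ cD M z, d = 1 ∨ d = z
  expo : ∀ x, Commute x z → x * x = 1

omit [Finite G] in
theorem isMulCommutative_of_exp_two (H : Subgroup G) (hH : ∀ x ∈ H, x * x = 1) : IsMulCommutative H := by
  refine ⟨⟨fun a b => Subtype.ext ?_⟩⟩
  show (a : G) * b = b * a
  calc (a : G) * b = ((a : G) * b)⁻¹ := (inv_eq_of_mul_eq_one_right (hH _ (mul_mem a.2 b.2))).symm
    _ = b * a := by
      rw [mul_inv_rev, inv_eq_of_mul_eq_one_right (hH _ a.2), inv_eq_of_mul_eq_one_right (hH _ b.2)]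

theorem card_conj_class (z : G) :
    Nat.card G = Nat.card {y : G // IsConj z y} * Nat.card (Subgroup.centralizer ({z} : Set G)) := by
  rw [Subgroup.card_eq_card_quotient_mul_card_subgroup (Subgroup.centralizer ({z} : Set G))]
  congr 1
  refine Nat.card_eq_of_bijective
    (fun q : G ⧸ cX z => (⟨q.out * z * q.out⁻¹, isConj_iff.2 ⟨q.out, rfl⟩⟩ : {y : G // IsConj z y})) ⟨?_, ?_⟩
  · intro q q' e
    have e' : q.out * z * q.out⁻¹ = q'.out * z * q'.out⁻¹ := congrArg Subtype.val e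
    rw [← QuotientGroup.out_eq' q, ← QuotientGroup.out_eq' q', QuotientGroup.eq,
      Subgroup.mem_centralizer_singleton_iff]
    calc q.out⁻¹ * q'.out * z = q.out⁻¹ * (q'.out * z * q'.out⁻¹) * q'.out := by group
      _ = z * (q.out⁻¹ * q'.out) := by rw [← e']; group
  · rintro ⟨y, hy⟩
    obtain ⟨g, rfl⟩ := isConj_iff.1 hy
    refine ⟨(g : G ⧸ cX z), Subtype.ext ?_⟩
    obtain ⟨⟨x, hx⟩, hgx⟩ := QuotientGroup.mk_out_eq_mul (cX z) g
    show (g : G ⧸ cX z).out * z * (g : G ⧸ cX z).out⁻¹ = g * z * g⁻¹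
    rw [hgx]
    show g * x * z * (g * x)⁻¹ = _
    rw [show g * x * z = g * (x * z) by group, Subgroup.mem_centralizer_singleton_iff.1 hx]
    group

theorem conj_sq {m x : G} (hx : x * x = 1) : (m * x * m⁻¹) * (m * x * m⁻¹) = 1 := by
  calc m * x * m⁻¹ * (m * x * m⁻¹) = m * (x * x) * m⁻¹ := by group
    _ = 1 := by rw [hx, mul_one, mul_inv_cancel]

theorem Setup.conj_z (h : Setup M z) {m : G} (hm : m ∈ M) : m * z * m⁻¹ = m * m * z := by
  calc m * z * m⁻¹ = m * z * (z * m * z) := by rw [h.z_inverts hm]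
    _ = m * (z * z) * m * z := by group
    _ = m * m * z := by rw [h.z_sq]; group

namespace DihCase

variable (c : DihCase M z)
include c

theorem card_D : Nat.card D = 2 := by
  refine Nat.card_eq_two_iff.2 ⟨⟨1, one_mem _⟩, ⟨z, c.setup.z_mem_D⟩,
    fun e => c.setup.z_ne_one (congrArg Subtype.val e).symm, ?_⟩
  ext d
  rcases c.two d d.2 with h | h
  · simp [Subtype.ext_iff, h]
  · simp [Subtype.ext_iff, h]

theorem eq_z {x : G} (hx : Commute x z) (hxN : x ∈ N) : x = 1 ∨ x = z :=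
  c.two x (Subgroup.mem_inf.2 ⟨hxN, Subgroup.mem_centralizer_singleton_iff.2 hx.eq⟩)

/-- Conjugates under `M` of distinct elements of `C(z) \ 1` are distinct. -/
theorem conj_inj {m m' x x' : G} (hm : m ∈ M) (hm' : m' ∈ M) (hx : Commute x z) (hx1 : x ≠ 1)
    (hx' : Commute x' z) (hx'1 : x' ≠ 1) (e : m * x * m⁻¹ = m' * x' * m'⁻¹) : m = m' ∧ x = x' := by
  have hMN : M ≤ N := Subgroup.le_normalizer
  by_cases hxN : x ∈ N
  · have hxz := (eq_z c hx hxN).resolve_left hx1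
    have hx'N : x' ∈ N := by
      have : x' = m'⁻¹ * (m * x * m⁻¹) * m' := by rw [e]; group
      rw [this]
      exact mul_mem (mul_mem (inv_mem (hMN hm')) (mul_mem (mul_mem (hMN hm) hxN) (inv_mem (hMN hm))))
        (hMN hm')
    have hx'z := (eq_z c hx' hx'N).resolve_left hx'1
    rw [hxz, hx'z] at e
    refine ⟨(inv_mul_eq_one.1 (c.setup.comm_z_M (mul_mem (inv_mem hm') hm) ?_)).symm, hxz.trans hx'z.symm⟩
    show z * (m'⁻¹ * m) = m'⁻¹ * m * z
    calc z * (m'⁻¹ * m) = m'⁻¹ * (m' * z * m'⁻¹) * m := by group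
      _ = m'⁻¹ * m * z := by rw [← e]; group
  · have hx'N : x' ∉ N := fun h => hxN (by
      have : x = m⁻¹ * (m' * x' * m'⁻¹) * m := by rw [← e]; group
      rw [this]
      exact mul_mem (mul_mem (inv_mem (hMN hm)) (mul_mem (mul_mem (hMN hm') h) (inv_mem (hMN hm'))))
        (hMN hm))
    obtain ⟨e1, e2, -⟩ := c.setup.decompose_unique c.full hx hxN hx' hx'N hm hm' (inv_mem hm)
      (inv_mem hm') e
    exact ⟨e1, e2⟩

/-- Every involution is `M`-conjugate into `C(z)`. -/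
theorem conj_surj {u : G} (hu : u * u = 1) (hu1 : u ≠ 1) :
    ∃ m ∈ M, ∃ x, Commute x z ∧ x ≠ 1 ∧ u = m * x * m⁻¹ := by
  by_cases huN : u ∈ N
  · obtain ⟨m1, hm1, rfl⟩ := c.setup.invol_N huN hu hu1
    obtain ⟨m, hm, rfl⟩ := c.setup.exists_sqrt hm1
    exact ⟨m, hm, z, Commute.refl z, c.setup.z_ne_one, (c.setup.conj_z hm).symm⟩
  · obtain ⟨m, hm, hc⟩ := c.setup.exists_commute c.full hu huN
    exact ⟨m, hm, _, hc, fun e => hu1 (by
      calc u = m * (m⁻¹ * u * m) * m⁻¹ := by group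
        _ = 1 := by rw [e, mul_one, mul_inv_cancel]), by group⟩

theorem card_class :
    Nat.card {y : G // IsConj z y} = Nat.card M * Nat.card {x : G // Commute x z ∧ IsConj z x} := by
  rw [← Nat.card_prod]
  symm
  refine Nat.card_eq_of_bijective (fun t : M × {x : G // Commute x z ∧ IsConj z x} =>
    (⟨(t.1 : G) * t.2 * (t.1 : G)⁻¹, t.2.2.2.trans (isConj_iff.2 ⟨t.1, rfl⟩)⟩ : {y : G // IsConj z y})) ⟨?_, ?_⟩
  · have hne : ∀ x : {x : G // Commute x z ∧ IsConj z x}, (x : G) ≠ 1 := fun x e => by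
      have h := x.2.2
      rw [e, isConj_iff] at h
      obtain ⟨g, hg⟩ := h
      exact c.setup.z_ne_one (conj_eq_one_iff.1 hg)
    rintro ⟨m, x⟩ ⟨m', x'⟩ e
    obtain ⟨e1, e2⟩ := conj_inj c m.2 m'.2 x.2.1 (hne x) x'.2.1 (hne x') (congrArg Subtype.val e)
    exact Prod.ext (Subtype.ext e1) (Subtype.ext e2)
  · rintro ⟨y, hy⟩
    obtain ⟨g, hg⟩ := isConj_iff.1 hy
    obtain ⟨m, hm, x, hx, -, rfl⟩ := conj_surj c (u := y) (by rw [← hg]; exact conj_sq c.setup.z_sq)
      (fun e => c.setup.z_ne_one (conj_eq_one_iff.1 (hg.trans e)))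
    exact ⟨(⟨m, hm⟩, ⟨x, hx, hy.trans (isConj_iff.2 ⟨m⁻¹, by group⟩)⟩), rfl⟩

theorem card_ne_one :
    Nat.card {x : G // Commute x z ∧ x ≠ 1} + 1 = Nat.card X := by
  classical
  haveI := Fintype.ofFinite G
  have h : Nat.card {x : G // Commute x z ∧ x ≠ 1} = Nat.card {x : X // x ≠ 1} :=
    Nat.card_congr ⟨fun x => ⟨⟨x, Subgroup.mem_centralizer_singleton_iff.2 x.2.1.eq⟩,
        fun e => x.2.2 (congrArg Subtype.val e)⟩,
      fun x => ⟨x.1, Subgroup.mem_centralizer_singleton_iff.1 x.1.2, fun e => x.2 (Subtype.ext e)⟩,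
      fun _ => rfl, fun _ => rfl⟩
  rw [h, Nat.card_eq_fintype_card, Fintype.card_subtype_compl, Fintype.card_subtype_eq,
    ← Nat.card_eq_fintype_card]
  have := Nat.card_pos (α := X)
  omega

theorem isPGroup_X : IsPGroup 2 X := fun x => ⟨1, Subtype.ext (by
  have := c.expo x (Subgroup.mem_centralizer_singleton_iff.1 x.2)
  simpa [sq] using this)⟩

/-- The arithmetic of the conjugacy class of `z`. -/
theorem numbers (hne : Nat.card {x : G // Commute x z ∧ x ∉ N} ≠ 2) :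
    (∃ d, 1 ≤ d ∧ Nat.card M = 2 ^ d + 1 ∧ Nat.card X = 2 ^ (d + 1) ∧
      Nat.card G = 2 ^ (2 * d + 1) * Nat.card M ∧
      Nat.card {x : G // Commute x z ∧ IsConj z x} = 2 ^ d) ∨
    (∃ e, 1 < e ∧ Nat.card M = 2 ^ e + 1 ∧ Nat.card X = 2 ^ e ∧
      (Nat.card G = 2 ^ e * (Nat.card M * (2 ^ e - 1))) ∧
      Nat.card {x : G // Commute x z ∧ IsConj z x} + 1 = Nat.card X) := by
  obtain ⟨o, ho⟩ : ∃ o, o = Nat.card {x : G // Commute x z ∧ x ∉ N} := ⟨_, rfl⟩
  obtain ⟨k, hk⟩ : ∃ k, k = Nat.card {x : G // Commute x z ∧ IsConj z x} := ⟨_, rfl⟩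
  rw [← ho] at hne
  rw [← hk]
  have hX : Nat.card X = 2 + o := by
    rw [show Nat.card X = _ from c.setup.card_centralizer_z (M := M), card_D c, ← ho]
  have hG := c.setup.card_G c.full
  rw [card_D c, ← ho] at hG
  have hcl := card_conj_class z
  rw [card_class c, ← hk, hG, hX] at hcl
  have hM : 0 < Nat.card M := Nat.card_pos
  have key : 2 + o * Nat.card M = k * (2 + o) := by
    refine Nat.eq_of_mul_eq_mul_left hM ?_
    calc Nat.card M * (2 + o * Nat.card M) = Nat.card M * 2 + Nat.card M * o * Nat.card M := by ring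
      _ = _ := by rw [hcl]; ring
  have hopos : 0 < o := by
    obtain ⟨u, -, huN, huz⟩ := c.setup.exists_outside c.full c.nn
    rw [ho]
    exact Nat.card_pos_iff.2 ⟨⟨⟨u, huz, huN⟩⟩, inferInstance⟩
  have hkle : k + 1 ≤ 2 + o := by
    rw [← hX, ← card_ne_one c, hk]
    refine Nat.add_le_add_right (Nat.card_le_card_of_injective
      (fun x : {x : G // Commute x z ∧ IsConj z x} => (⟨x, x.2.1, fun e => by
        have h := x.2.2
        rw [e, isConj_iff] at h
        obtain ⟨g, hg⟩ := h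
        exact c.setup.z_ne_one (conj_eq_one_iff.1 hg)⟩ : {x : G // Commute x z ∧ x ≠ 1}))
      fun a b e => Subtype.ext (congrArg Subtype.val e :)) 1
  obtain ⟨e, he⟩ := IsPGroup.iff_card.1 (isPGroup_X c)
  rw [hX] at he
  have hM1 : 1 < Nat.card M := by
    obtain ⟨x, hx, hx1⟩ := M.bot_or_exists_ne_one.resolve_left c.setup.ne_bot
    exact Finite.one_lt_card_iff_nontrivial.2 ⟨⟨⟨x, hx⟩, 1, fun e => hx1 (congrArg Subtype.val e)⟩⟩
  have he2 : 2 ≤ e := by
    by_contra hlt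
    have : 2 ^ e ≤ 2 ^ 1 := Nat.pow_le_pow_right two_pos (by omega)
    omega
  obtain ⟨e', rfl⟩ : ∃ e', e = e' + 2 := ⟨e - 2, by omega⟩
  have hpow : 2 ^ (e' + 2) = 2 * 2 ^ (e' + 1) := pow_succ' 2 (e' + 1)
  obtain ⟨s, hs⟩ : ∃ s, s = 2 ^ (e' + 1) := ⟨_, rfl⟩
  rw [← hs] at hpow
  have hMk : k < Nat.card M := by
    by_contra hle
    have h1 : Nat.card M * (2 + o) ≤ k * (2 + o) := Nat.mul_le_mul_right _ (not_lt.1 hle)
    rw [← key] at h1
    nlinarith
  obtain ⟨i, hi⟩ : ∃ i, Nat.card M = k + i := ⟨Nat.card M - k, by omega⟩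
  rw [hi] at key
  have hk1 : o * i + 2 = 2 * k := by nlinarith
  have hi2 : i ≤ 2 := by
    by_contra h3
    have : o * 3 ≤ o * i := Nat.mul_le_mul_left o (by omega)
    omega
  rcases (show i = 1 ∨ i = 2 by omega) with rfl | rfl
  · left
    refine ⟨e' + 1, by omega, by omega, by rw [hX, he], ?_, by omega⟩
    rw [hG, show Nat.card M = s + 1 by omega, show o = 2 * s - 2 by omega, pow_succ', pow_mul',
      sq, ← hs]
    obtain ⟨r, rfl⟩ : ∃ r, s = r + 2 := ⟨s - 2, by omega⟩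
    rw [show 2 * (r + 2) - 2 = 2 * r + 2 by omega]
    ring
  · right
    refine ⟨e' + 2, by omega, by omega, by rw [hX, he], ?_, by omega⟩
    rw [hG, show Nat.card M = 2 * s + 1 by omega, show o = 2 * s - 2 by omega, hpow]
    obtain ⟨r, rfl⟩ : ∃ r, s = r + 2 := ⟨s - 2, by omega⟩
    rw [show 2 * (r + 2) - 2 = 2 * r + 2 by omega, show 2 * (r + 2) - 1 = 2 * r + 3 by omega]
    ring

theorem odd_M : Odd (Nat.card M) := by
  rcases Nat.even_or_odd (Nat.card M) with he | ho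
  · obtain ⟨y, hy⟩ := exists_prime_orderOf_dvd_card' (G := M) 2 he.two_dvd
    exfalso
    have h1 : (y : G) = 1 := c.setup.sq_M y.2 (by
      have e := pow_orderOf_eq_one y
      rw [hy, sq] at e
      exact congrArg Subtype.val e)
    rw [← Subgroup.orderOf_coe, h1, orderOf_one] at hy
    omega
  · exact ho

theorem psl_even {e : ℕ} (he : 1 < e) (hM : Nat.card M = 2 ^ e + 1) (hX : Nat.card X = 2 ^ e)
    (hG : Nat.card G = 2 ^ e * (Nat.card M * (2 ^ e - 1)))
    (hall : Nat.card {x : G // Commute x z ∧ IsConj z x} + 1 = Nat.card X) :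
    ∃ (F : Type) (_ : Field F) (_ : Fintype F) (e : ℕ), 1 < e ∧ Fintype.card F = 2 ^ e ∧ IsCyclic ↥M ∧
      Nat.card M = 2 ^ e + 1 ∧ Nonempty (G ≃* Matrix.ProjectiveSpecialLinearGroup (Fin 2) F) := by
  classical
  haveI : Fact (Nat.Prime 2) := ⟨Nat.prime_two⟩
  -- all involutions are conjugate to `z`
  let f : {x : G // Commute x z ∧ IsConj z x} → {x : G // Commute x z ∧ x ≠ 1} := fun x => ⟨x, x.2.1, fun e => by
    have h := x.2.2
    rw [e, isConj_iff] at h
    obtain ⟨g, hg⟩ := h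
    exact c.setup.z_ne_one (conj_eq_one_iff.1 hg)⟩
  have hf : Function.Bijective f := by
    refine Function.Injective.bijective_of_nat_card_le
      (fun a b e => Subtype.ext (congrArg Subtype.val e :)) ?_
    have := card_ne_one c
    omega
  have hconj : ∀ u : G, u * u = 1 → u ≠ 1 → IsConj z u := by
    intro u hu hu1
    obtain ⟨m, hm, x, hx, hx1, rfl⟩ := conj_surj c hu hu1
    obtain ⟨⟨x', hx'⟩, hxx⟩ := hf.2 ⟨x, hx, hx1⟩
    have : x' = x := congrArg Subtype.val hxx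
    subst this
    exact hx'.2.trans (isConj_iff.2 ⟨m, rfl⟩)
  -- a Sylow subgroup
  have hodd : ¬ 2 ∣ (X).index := by
    have h1 := (X).card_mul_index
    rw [hX, hG] at h1
    rw [Nat.eq_of_mul_eq_mul_left (Nat.two_pow_pos e) h1, Nat.prime_two.dvd_mul]
    obtain ⟨j, hj⟩ := odd_M c
    have : Even (2 ^ e) := Nat.even_pow.2 ⟨even_two, by omega⟩
    obtain ⟨i, hi⟩ := this
    have := Nat.two_pow_pos e
    omega
  obtain ⟨T, hT⟩ : ∃ T : Sylow 2 G, (T : Subgroup G) = X := ⟨(isPGroup_X c).toSylow hodd, rfl⟩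
  have h4 : 4 ≤ 2 ^ e := by
    calc 4 = 2 ^ 2 := rfl
      _ ≤ _ := Nat.pow_le_pow_right two_pos he
  have hnc : ¬ IsCyclic (T : Subgroup G) := by
    intro hcyc
    obtain ⟨g, hg⟩ := hcyc.exists_generator
    have h1 := orderOf_eq_card_of_forall_mem_zpowers hg
    have h2 : orderOf g ∣ 2 := orderOf_dvd_of_pow_eq_one (Subtype.ext (by
      have := c.expo g (Subgroup.mem_centralizer_singleton_iff.1 (hT ▸ g.2 : (g : G) ∈ X))
      simpa [sq] using this))
    have h3 := Nat.le_of_dvd two_pos h2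
    rw [h1, hT, hX] at h3
    omega
  have hnn : ¬ (T : Subgroup G).Normal := by
    intro hn
    obtain ⟨m, hm, hm1⟩ := M.bot_or_exists_ne_one.resolve_left c.setup.ne_bot
    have h1 : m * z * m⁻¹ ∈ (T : Subgroup G) :=
      hn.conj_mem z (by rw [hT]; exact Subgroup.mem_centralizer_singleton_iff.2 rfl) m
    rw [hT, Subgroup.mem_centralizer_singleton_iff] at h1
    refine hm1 (c.setup.sq_M hm (c.setup.comm_z_M (mul_mem hm hm) ?_))
    rw [c.setup.conj_z hm, mul_assoc, c.setup.z_sq, mul_one] at h1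
    show z * (m * m) = m * m * z
    calc z * (m * m) = (z * (m * m * z)) * z⁻¹ := by group
      _ = m * m * z⁻¹ := by rw [← h1]
      _ = m * m * z := by rw [inv_of_sq c.setup.z_sq]
  have hC : ∀ t : G, orderOf t = 2 → IsMulCommutative (Subgroup.centralizer ({t} : Set G)) ∧
      ∀ v ∈ Subgroup.centralizer ({t} : Set G), v ^ 2 = 1 := by
    intro t ht
    have ht2 : t * t = 1 := by rw [← sq, ← ht, pow_orderOf_eq_one]
    obtain ⟨g, hg⟩ := isConj_iff.1 (hconj t ht2 (fun e => by rw [e, orderOf_one] at ht; omega))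
    have hexp : ∀ v ∈ Subgroup.centralizer ({t} : Set G), v * v = 1 := fun v hv => by
      rw [Subgroup.mem_centralizer_singleton_iff, ← hg] at hv
      have h1 := c.expo (g⁻¹ * v * g) (by
        show g⁻¹ * v * g * z = z * (g⁻¹ * v * g)
        calc g⁻¹ * v * g * z = g⁻¹ * (v * (g * z * g⁻¹)) * g := by group
          _ = z * (g⁻¹ * v * g) := by rw [hv]; group)
      calc v * v = g * ((g⁻¹ * v * g) * (g⁻¹ * v * g)) * g⁻¹ := by group
        _ = 1 := by rw [h1, mul_one, mul_inv_cancel]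
    exact ⟨isMulCommutative_of_exp_two _ hexp, fun v hv => by rw [sq]; exact hexp v hv⟩
  obtain ⟨F, iF, iFt, hF, ⟨ψ⟩⟩ := TwoGroups.ElemCent.exists_mulEquiv_psl (T := T) ⟨hnc, hnn, hC⟩
  rw [hT, hX] at hF
  haveI : CharP F 2 := charP_of_card_eq_prime_pow (f := e) hF
  refine ⟨F, iF, iFt, e, he, hF, ?_, hM, ⟨ψ⟩⟩
  obtain ⟨θ⟩ := Recog.AffineTwo.psl_equiv_sl F
  let η := ((ψ.trans θ).toMonoidHom).comp M.subtype
  have hη : Function.Injective η := (ψ.trans θ).injective.comp M.subtype_injective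
  have : IsZGroup M := ⟨fun r hr R => by
    haveI := Fact.mk hr
    rcases eq_or_ne r 2 with rfl | hr2
    · have h1 : (R : Subgroup M) = ⊥ := by
        refine Subgroup.card_eq_one.1 ?_
        rw [R.card_eq_multiplicity, Nat.factorization_eq_zero_of_not_dvd, pow_zero]
        rw [← even_iff_two_dvd, Nat.not_even_iff_odd]
        exact odd_M c
      rw [h1]
      exact isCyclic_of_subsingleton
    · obtain ⟨Q, hQ⟩ := (R.2.map η).exists_le_sylow
      haveI := Classical.Two.isCyclic_sylow_odd 2 r hr2 hr2 Q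
      have := Subgroup.isCyclic_of_le hQ
      exact isCyclic_of_injective ((R : Subgroup M).equivMapOfInjective η hη).toMonoidHom
        (MulEquiv.injective _)⟩
  letI : CommGroup M := { (inferInstance : Group M) with
    mul_comm := fun a b => Subtype.ext (c.setup.comm_M a.2 b.2) }
  infer_instance

theorem affine {d : ℕ} (hd : 1 ≤ d) (hM : Nat.card M = 2 ^ d + 1) (hX : Nat.card X = 2 ^ (d + 1))
    (hG : Nat.card G = 2 ^ (2 * d + 1) * Nat.card M)
    (hcl : Nat.card {x : G // Commute x z ∧ IsConj z x} = 2 ^ d) :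
    ∃ (d : ℕ) (E : Subgroup G), 1 ≤ d ∧ E.Normal ∧ Cfsg.IsElementaryAbelian 2 E ∧ Nat.card E = 2 ^ (2 * d) ∧
      E ⊓ Subgroup.normalizer (M : Set G) = ⊥ ∧ E ⊔ Subgroup.normalizer (M : Set G) = ⊤ ∧
      Nonempty (↥(Subgroup.normalizer (M : Set G)) ≃* DihedralGroup (2 ^ d + 1)) := by
  classical
  haveI : Fact (Nat.Prime 2) := ⟨Nat.prime_two⟩
  -- involutions not conjugate to `z` invert no element of odd order
  have hR : ∀ u : G, u * u = 1 → u ≠ 1 → ¬ IsConj z u → u ∈ Cfsg.pCore 2 G := by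
    intro u hu hu1 hnc
    by_contra hO
    obtain ⟨h, hh1, hho, hhu⟩ := exists_odd_inverted hu hO
    obtain ⟨r, hr, hrd⟩ := Nat.exists_prime_and_dvd (fun e => hh1 (orderOf_eq_one_iff.1 e))
    haveI := Fact.mk hr
    obtain ⟨q, hq⟩ := hrd
    obtain ⟨w, hw⟩ : ∃ w, w = h ^ q := ⟨_, rfl⟩
    have hwo : orderOf w = r := by
      have hpos := orderOf_pos h
      have hq0 : q ≠ 0 := fun e => by rw [hq, e, mul_zero] at hpos; omega
      rw [hw, orderOf_pow_of_dvd hq0 ⟨r, by rw [hq, mul_comm]⟩, hq, Nat.mul_div_cancel _ (Nat.pos_of_ne_zero hq0)]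
    have hwu : u * w * u⁻¹ = w⁻¹ := by rw [hw, ← conj_pow, hhu, inv_pow]
    have hr2 : r ≠ 2 := by
      rintro rfl
      rw [hq] at hho
      exact absurd hho (Nat.not_odd_iff_even.2 ((even_iff_two_dvd.2 (dvd_mul_right 2 q))))
    obtain ⟨R⟩ := (inferInstance : Nonempty (Sylow r M))
    obtain ⟨S, hS⟩ : ∃ S : Sylow r G, (S : Subgroup G) = (R : Subgroup M).map M.subtype := by
      refine ⟨(R.2.map M.subtype).toSylow ?_, rfl⟩
      rw [Subgroup.index_map, M.subtype.ker_eq_bot_iff.2 M.subtype_injective, sup_bot_eq,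
        Subgroup.range_subtype, hr.dvd_mul]
      rintro (h1 | h1)
      · exact R.not_dvd_index h1
      · have h2 := M.card_mul_index
        rw [hG, mul_comm (2 ^ (2 * d + 1))] at h2
        rw [Nat.eq_of_mul_eq_mul_left Nat.card_pos h2] at h1
        exact hr2 ((Nat.prime_dvd_prime_iff_eq hr Nat.prime_two).1 (hr.dvd_of_dvd_pow h1))
    obtain ⟨S', hS'⟩ := (IsPGroup.of_card (n := 1) (by rw [Nat.card_zpowers, hwo, pow_one]) :
      IsPGroup r (Subgroup.zpowers w)).exists_le_sylow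
    obtain ⟨g, rfl⟩ := MulAction.exists_smul_eq G S S'
    obtain ⟨x, hx, hxw⟩ := (hS' (Subgroup.mem_zpowers w) : w ∈ ((g • S : Sylow r G) : Subgroup G))
    have hxM : x ∈ M := by
      rw [hS] at hx
      obtain ⟨y, -, rfl⟩ := hx
      exact y.2
    have hxw' : g * x * g⁻¹ = w := hxw
    have hx1 : x ≠ 1 := fun e => by
      rw [e, mul_one, mul_inv_cancel] at hxw'
      rw [← hxw', orderOf_one] at hwo
      exact hr.one_lt.ne hwo
    have e1 : (g⁻¹ * u * g) * x * (g⁻¹ * u * g)⁻¹ = x⁻¹ := by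
      calc (g⁻¹ * u * g) * x * (g⁻¹ * u * g)⁻¹ = g⁻¹ * (u * (g * x * g⁻¹) * u⁻¹) * g := by group
        _ = x⁻¹ := by rw [hxw', hwu, ← hxw']; group
    have hvN := c.setup.ti' hxM hx1 (e1 ▸ inv_mem hxM)
    obtain ⟨m1, hm1, hm⟩ := c.setup.invol_N hvN (by
      calc g⁻¹ * u * g * (g⁻¹ * u * g) = g⁻¹ * (u * u) * g := by group
        _ = 1 := by rw [hu, mul_one, inv_mul_cancel]) (fun e => hu1 (by
      calc u = g * (g⁻¹ * u * g) * g⁻¹ := by group
        _ = 1 := by rw [e, mul_one, mul_inv_cancel]))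
    obtain ⟨m, hmM, rfl⟩ := c.setup.exists_sqrt hm1
    rw [← c.setup.conj_z hmM] at hm
    exact hnc (isConj_iff.2 ⟨g * m, by
      calc g * m * z * (g * m)⁻¹ = g * (m * z * m⁻¹) * g⁻¹ := by group
        _ = u := by rw [← hm]; group⟩)
  -- the normal subgroup
  obtain ⟨E, hE⟩ : ∃ E, E = Cfsg.pCore 2 G := ⟨_, rfl⟩
  rw [← hE] at hR
  haveI hEn : E.Normal := hE ▸ CfsgLib.Core.normal_pCore 2 G
  have hEp : IsPGroup 2 E := hE ▸ CfsgLib.Core.isPGroup_pCore 2 G
  let Y := {x : G // (Commute x z ∧ x ≠ 1) ∧ ¬ IsConj z x}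
  let f : Option (M × Y) → E := fun o => o.elim 1 fun t => ⟨(t.1 : G) * (t.2 : G) * (t.1 : G)⁻¹,
    hR _ (conj_sq (c.expo _ t.2.2.1.1)) (fun e => t.2.2.1.2 (conj_eq_one_iff.1 e))
      (fun h => t.2.2.2 (h.trans (isConj_iff.2 ⟨(t.1 : G)⁻¹, by group⟩)))⟩
  have hf : Function.Injective f := by
    rintro (_ | ⟨m, x⟩) (_ | ⟨m', x'⟩) e
    · rfl
    · exact absurd (conj_eq_one_iff.1 (congrArg Subtype.val e).symm) x'.2.1.2
    · exact absurd (conj_eq_one_iff.1 (congrArg Subtype.val e)) x.2.1.2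
    · obtain ⟨e1, e2⟩ := conj_inj c m.2 m'.2 x.2.1.1 x.2.1.2 x'.2.1.1 x'.2.1.2 (congrArg Subtype.val e)
      exact congrArg some (Prod.ext (Subtype.ext e1) (Subtype.ext e2))
  have hY : Nat.card Y + 1 = 2 ^ d := by
    haveI := Fintype.ofFinite G
    have h1 := card_ne_one c
    have h2 : Nat.card {x : G // Commute x z ∧ x ≠ 1} =
        Nat.card {x : G // Commute x z ∧ IsConj z x} + Nat.card Y := by
      rw [← Nat.card_sum]
      refine Nat.card_congr ((Equiv.sumCompl (fun x : {x : G // Commute x z ∧ x ≠ 1} => IsConj z x.1)).symm.trans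
        (Equiv.sumCongr ?_ ?_))
      · exact ⟨fun x => ⟨x.1, x.1.2.1, x.2⟩, fun x => ⟨⟨x.1, x.2.1, fun e => by
          have h := x.2.2
          rw [e, isConj_iff] at h
          obtain ⟨g, hg⟩ := h
          exact c.setup.z_ne_one (conj_eq_one_iff.1 hg)⟩, x.2.2⟩, fun _ => rfl, fun _ => rfl⟩
      · exact ⟨fun x => ⟨x.1, x.1.2, x.2⟩, fun x => ⟨⟨x.1, x.2.1⟩, x.2.2⟩, fun _ => rfl, fun _ => rfl⟩
    rw [h2, hcl, hX, pow_succ] at h1
    omega
  have hcardf : Nat.card (Option (M × Y)) = 2 ^ (2 * d) := by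
    rw [Finite.card_option, Nat.card_prod, hM, two_mul, pow_add, ← hY,
      show Nat.card Y + 1 + 1 = Nat.card Y + 2 from rfl]
    ring
  obtain ⟨j, hj⟩ := IsPGroup.iff_card.1 hEp
  have hjle : j ≤ 2 * d + 1 := by
    have h1 : 2 ^ j ∣ 2 ^ (2 * d + 1) * Nat.card M := hj ▸ hG ▸ Subgroup.card_subgroup_dvd_card E
    refine Nat.pow_dvd_pow_iff_le_right (x := 2) (by norm_num) |>.1
      ((Nat.Coprime.pow_left j ?_).dvd_of_dvd_mul_right h1)
    exact (Nat.coprime_two_left).2 (odd_M c)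
  have hzE : z ∉ E := by
    intro hz
    let f' : Option (M × Y) ⊕ (M × {x : G // Commute x z ∧ IsConj z x}) → E :=
      Sum.elim f fun t => ⟨(t.1 : G) * (t.2 : G) * (t.1 : G)⁻¹, hEn.conj_mem _ (by
        obtain ⟨g, hg⟩ := isConj_iff.1 t.2.2.2
        rw [← hg]
        exact hEn.conj_mem z hz g) _⟩
    have hne : ∀ x : {x : G // Commute x z ∧ IsConj z x}, (x : G) ≠ 1 := fun x e => by
      have h := x.2.2
      rw [e, isConj_iff] at h
      obtain ⟨g, hg⟩ := h
      exact c.setup.z_ne_one (conj_eq_one_iff.1 hg)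
    have hf' : Function.Injective f' := by
      rintro (o | ⟨m, x⟩) (o' | ⟨m', x'⟩) e
      · exact congrArg Sum.inl (hf e)
      · rcases o with _ | ⟨m, x⟩
        · exact absurd (conj_eq_one_iff.1 (congrArg Subtype.val e).symm) (hne x')
        · obtain ⟨-, e2⟩ := conj_inj c m.2 m'.2 x.2.1.1 x.2.1.2 x'.2.1 (hne x') (congrArg Subtype.val e)
          exact absurd (e2 ▸ x'.2.2) x.2.2
      · rcases o' with _ | ⟨m', x'⟩
        · exact absurd (conj_eq_one_iff.1 (congrArg Subtype.val e)) (hne x)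
        · obtain ⟨-, e2⟩ := conj_inj c m.2 m'.2 x.2.1 (hne x) x'.2.1.1 x'.2.1.2 (congrArg Subtype.val e)
          exact absurd (e2 ▸ x.2.2) x'.2.2
      · obtain ⟨e1, e2⟩ := conj_inj c m.2 m'.2 x.2.1 (hne x) x'.2.1 (hne x') (congrArg Subtype.val e)
        exact congrArg Sum.inr (Prod.ext (Subtype.ext e1) (Subtype.ext e2))
    have h1 := Nat.card_le_card_of_injective f' hf'
    rw [Nat.card_sum, hcardf, Nat.card_prod, hM, hcl, hj] at h1
    have h2 := h1.trans (Nat.pow_le_pow_right two_pos hjle)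
    rw [add_mul, one_mul, ← pow_add, ← two_mul, pow_succ] at h2
    have := Nat.two_pow_pos d
    omega
  have hjlt : j ≤ 2 * d := by
    by_contra hlt
    obtain rfl : j = 2 * d + 1 := by omega
    refine hzE ?_
    obtain ⟨S, hS⟩ := (IsPGroup.of_card (n := 1) (by rw [Nat.card_zpowers, c.setup.ord_z, pow_one]) :
      IsPGroup 2 (Subgroup.zpowers z)).exists_le_sylow
    have hES : E = (S : Subgroup G) := by
      refine Subgroup.eq_of_le_of_card_ge (hE ▸ CfsgLib.Core.pCore_le_sylow S) ?_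
      obtain ⟨i, hi⟩ := IsPGroup.iff_card.1 S.2
      have h1 : 2 ^ i ∣ 2 ^ (2 * d + 1) * Nat.card M := hi ▸ hG ▸ Subgroup.card_subgroup_dvd_card _
      rw [hj, hi]
      exact Nat.le_of_dvd (Nat.two_pow_pos _) ((Nat.Coprime.pow_left i
        ((Nat.coprime_two_left).2 (odd_M c))).dvd_of_dvd_mul_right h1)
    rw [hES]
    exact hS (Subgroup.mem_zpowers z)
  have hbij : Function.Bijective f := by
    refine hf.bijective_of_nat_card_le ?_
    rw [hcardf, hj]
    exact Nat.pow_le_pow_right two_pos hjlt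
  have hEcard : Nat.card E = 2 ^ (2 * d) := by rw [← hcardf, Nat.card_eq_of_bijective f hbij]
  have hEelt : ∀ v ∈ E, v = 1 ∨ (v * v = 1 ∧ ¬ IsConj z v) := fun v hv => by
    obtain ⟨(_ | ⟨m, x⟩), ho⟩ := hbij.2 ⟨v, hv⟩
    · exact Or.inl (congrArg Subtype.val ho).symm
    · right
      rw [← show (m : G) * (x : G) * (m : G)⁻¹ = v from congrArg Subtype.val ho]
      exact ⟨conj_sq (c.expo _ x.2.1.1),
        fun h => x.2.2 (h.trans (isConj_iff.2 ⟨(m : G)⁻¹, by group⟩))⟩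
  have hexp : ∀ v ∈ E, v * v = 1 := fun v hv => by
    rcases hEelt v hv with rfl | h
    · exact one_mul 1
    · exact h.1
  have hEN : E ⊓ N = ⊥ := by
    rw [Subgroup.eq_bot_iff_forall]
    rintro v ⟨hv, hvN⟩
    by_contra hv1
    rcases hEelt v hv with e | ⟨h1, h2⟩
    · exact hv1 e
    obtain ⟨m1, hm1, hm⟩ := c.setup.invol_N hvN h1 hv1
    obtain ⟨m, hmM, rfl⟩ := c.setup.exists_sqrt hm1
    exact h2 (isConj_iff.2 ⟨m, by rw [c.setup.conj_z hmM, hm]⟩)
  have hNcard : Nat.card N = 2 * (2 ^ d + 1) := by rw [c.setup.card_N, card_D c, hM]; ring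
  have hsup : E ⊔ N = ⊤ := by
    refine (Subgroup.isComplement'_of_card_mul_and_disjoint ?_ (disjoint_iff.2 hEN)).sup_eq_top
    rw [hEcard, hNcard, hG, hM, pow_succ]
    ring
  have hEab := isMulCommutative_of_exp_two E hexp
  refine ⟨d, E, hd, hEn, ⟨hEab, fun v hv => by rw [sq]; exact hexp v hv⟩, hEcard, hEN, hsup, ?_⟩
  -- `M` is cyclic
  haveI : IsCyclic M := by
    letI : CommGroup M := { (inferInstance : Group M) with
      mul_comm := fun a b => Subtype.ext (c.setup.comm_M a.2 b.2) }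
    letI : CommGroup E := { (inferInstance : Group E) with mul_comm := hEab.is_comm.comm }
    haveI : Nontrivial E := Finite.one_lt_card_iff_nontrivial.1 (hEcard ▸ Nat.one_lt_two_pow (by omega))
    refine CfsgLib.NoDiv.isCyclic_of_fpf
      ((MulAut.conjNormal (H := E)).comp M.subtype) fun a ha v hv => Subtype.ext ?_
    have hv' : (a : G) * v * (a : G)⁻¹ = v := congrArg Subtype.val hv
    exact c.setup.no_invol_comm a.2 (fun e => ha (Subtype.ext e)) (hexp v v.2)
      (mul_inv_eq_iff_eq_mul.1 hv').symm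
  obtain ⟨⟨g, hgM⟩, hg⟩ := IsCyclic.exists_generator (α := M)
  haveI : NeZero (2 ^ d + 1) := ⟨Nat.succ_ne_zero _⟩
  refine TwoGroups.nonempty_mulEquiv_dihedralGroup
    (a := (⟨g, Subgroup.le_normalizer hgM⟩ : N)) (b := (⟨z, c.setup.z_mem⟩ : N)) ?_ ?_ ?_ ?_ hNcard
  · rw [Subgroup.orderOf_mk, ← hM, ← orderOf_eq_card_of_forall_mem_zpowers hg, Subgroup.orderOf_mk]
  · exact Subtype.ext c.setup.z_sq
  · intro hmem
    obtain ⟨i, hi⟩ := Subgroup.mem_zpowers_iff.1 hmem
    have : g ^ i = z := by simpa using congrArg Subtype.val hi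
    exact c.setup.z_not_mem (this ▸ zpow_mem hgM i)
  · refine Subtype.ext ?_
    show z * g * z⁻¹ = g⁻¹
    rw [inv_of_sq c.setup.z_sq]
    exact c.setup.z_inverts hgM

theorem conclusion (hne : Nat.card {x : G // Commute x z ∧ x ∉ N} ≠ 2) :
    (∃ (F : Type) (_ : Field F) (_ : Fintype F) (e : ℕ), 1 < e ∧ Fintype.card F = 2 ^ e ∧ IsCyclic ↥M ∧
      Nat.card M = 2 ^ e + 1 ∧ Nonempty (G ≃* Matrix.ProjectiveSpecialLinearGroup (Fin 2) F)) ∨
    (∃ (d : ℕ) (E : Subgroup G), 1 ≤ d ∧ E.Normal ∧ Cfsg.IsElementaryAbelian 2 E ∧ Nat.card E = 2 ^ (2 * d) ∧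
      E ⊓ Subgroup.normalizer (M : Set G) = ⊥ ∧ E ⊔ Subgroup.normalizer (M : Set G) = ⊤ ∧
      Nonempty (↥(Subgroup.normalizer (M : Set G)) ≃* DihedralGroup (2 ^ d + 1))) := by
  rcases numbers c hne with ⟨d, hd, hM, hX, hG, hcl⟩ | ⟨e, he, hM, hX, hG, hall⟩
  · exact Or.inr (affine c hd hM hX hG hcl)
  · exact Or.inl (psl_even c he hM hX hG hall)

end DihCase

end CfsgLib.LocalEvenB.TICount
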