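import Cfsg.Agent.Lib.LocalEvenB.TICount.TwoPoint
import Cfsg.Agent.Lib.LocalEvenB.TICount.Dihedral

/-!
# Trivial intersection subgroups with more involutions than cosets: the classification
-/

set_option autoImplicit false

namespace CfsgLib.LocalEvenB.TICount

open Subgroup Cfsg

variable {G : Type*} [Group G] [Finite G] {M : Subgroup G} {z : G}

theorem main (h : Setup M z) (hI : M.index < Nat.card {g : G // orderOf g = 2}) (hMn : ¬ M.Normal) :
    (∃ (F : Type) (_ : Field F) (_ : Fintype F) (p : ℕ) (_ : Fact p.Prime) (_ : CharP F p),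
      Fintype.card F = Nat.card M ∧ Cfsg.IsElementaryAbelian p M ∧
        (Nonempty (G ≃* (GL (Fin 2) F ⧸ Subgroup.center (GL (Fin 2) F))) ∨
         (Fintype.card F % 4 = 1 ∧ Nonempty (G ≃* Matrix.ProjectiveSpecialLinearGroup (Fin 2) F)))) ∨
    (∃ (F : Type) (_ : Field F) (_ : Fintype F) (e : ℕ), 1 < e ∧ Fintype.card F = 2 ^ e ∧ IsCyclic ↥M ∧
      Nat.card M = 2 ^ e + 1 ∧ Nonempty (G ≃* Matrix.ProjectiveSpecialLinearGroup (Fin 2) F)) ∨
    (∃ (d : ℕ) (E : Subgroup G), 1 ≤ d ∧ E.Normal ∧ Cfsg.IsElementaryAbelian 2 E ∧ Nat.card E = 2 ^ (2 * d) ∧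
      E ⊓ Subgroup.normalizer (M : Set G) = ⊥ ∧ E ⊔ Subgroup.normalizer (M : Set G) = ⊤ ∧
      Nonempty (↥(Subgroup.normalizer (M : Set G)) ≃* DihedralGroup (2 ^ d + 1))) := by
  classical
  have hF := h.full hI
  have hnn : Subgroup.normalizer (M : Set G) ≠ ⊤ := fun e => hMn (Subgroup.normalizer_eq_top_iff.1 e)
  rcases h.centralizer_cases hF hnn with ⟨x₀, hx₀, hx₀N, hcov, hcard⟩ | ⟨hD, hexp⟩
  · exact Or.inl (TwoCase.conclusion ⟨h, hF, hnn, hx₀, hx₀N, hcov, hcard⟩)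
  · have c : DihCase M z := ⟨h, hF, hnn, hD, hexp⟩
    by_cases hne : Nat.card {x : G // Commute x z ∧ x ∉ Subgroup.normalizer (M : Set G)} = 2
    · obtain ⟨x₀, hx₀2, hx₀N, hx₀⟩ := h.exists_outside hF hnn
      refine Or.inl (TwoCase.conclusion (x₀ := x₀) ⟨h, hF, hnn, hx₀, hx₀N, fun x hx hxN => ?_,
        by rw [hne, c.card_D]⟩)
      have hbij : Function.Bijective (fun d : cD M z =>
          (⟨x₀ * d, h.mul_D_outside hF hx₀ hx₀N d.2⟩ :
            {x : G // Commute x z ∧ x ∉ Subgroup.normalizer (M : Set G)})) :=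
        Function.Injective.bijective_of_nat_card_le
          (fun a b e => Subtype.ext (mul_left_cancel (congrArg Subtype.val e))) (by rw [hne, c.card_D])
      obtain ⟨⟨d, hd⟩, e⟩ := hbij.2 ⟨x, hx, hxN⟩
      exact ⟨d, hd, (congrArg Subtype.val e).symm⟩
    · exact Or.inr (c.conclusion hne)

end CfsgLib.LocalEvenB.TICount
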