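import Cfsg.Agent.Lib.LocalEvenB.Basic
import Cfsg.Agent.Lib.Core.Coprime
import Mathlib.GroupTheory.Coset.Card

/-!
# A trivial intersection subgroup inverted by an involution, with many involutions

`M` meets its other conjugates trivially, `N_G(M) = M C_{N_G(M)}(z)` and centralizers of non-trivial
elements of `M` have odd order. If there are more involutions than cosets of `M`, every coset outside
`N_G(M)` contains exactly one involution.
-/

set_option autoImplicit false

namespace CfsgLib.LocalEvenB.TICount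

open Subgroup Cfsg

variable {G : Type*} [Group G] [Finite G]

/-- The hypotheses. -/
structure Setup (M : Subgroup G) (z : G) : Prop where
  ne_bot : M ≠ ⊥
  ti : ∀ g : G, M ⊓ M.map (MulAut.conj g).toMonoidHom ≠ ⊥ → M.map (MulAut.conj g).toMonoidHom = M
  ord_z : orderOf z = 2
  z_mem : z ∈ Subgroup.normalizer (M : Set G)
  fac : M ⊔ (Subgroup.normalizer (M : Set G) ⊓ Subgroup.centralizer ({z} : Set G)) =
    Subgroup.normalizer (M : Set G)
  odd : ∀ x ∈ M, x ≠ 1 → Odd (Nat.card ↥(Subgroup.centralizer ({x} : Set G)))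

/-- Every coset of `M` outside the normalizer contains an involution. -/
def Full (M : Subgroup G) : Prop :=
  ∀ g : G, g ∉ Subgroup.normalizer (M : Set G) → ∃ m ∈ M, (g * m) * (g * m) = 1

/-- `C_{N_G(M)}(z)`. -/
abbrev cD (M : Subgroup G) (z : G) : Subgroup G :=
  Subgroup.normalizer (M : Set G) ⊓ Subgroup.centralizer ({z} : Set G)

variable {M : Subgroup G} {z : G}

local notation "N" => Subgroup.normalizer (M : Set G)
local notation "D" => cD M z

theorem inv_of_sq {u : G} (hu : u * u = 1) : u⁻¹ = u := inv_eq_of_mul_eq_one_right hu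

namespace Setup

variable (h : Setup M z)
include h

theorem z_sq : z * z = 1 := by
  have e := pow_orderOf_eq_one z
  rwa [h.ord_z, sq] at e

theorem z_ne_one : z ≠ 1 := fun e => by
  have := h.ord_z
  rw [e, orderOf_one] at this
  exact absurd this (by norm_num)

theorem ti' {g x : G} (hx : x ∈ M) (hx1 : x ≠ 1) (hg : g * x * g⁻¹ ∈ M) : g ∈ N := by
  refine map_conj_eq_self_iff_mem_normalizer.1 (h.ti g fun e => hx1 ?_)
  have h1 : g * x * g⁻¹ ∈ M ⊓ M.map (MulAut.conj g).toMonoidHom := ⟨hg, x, hx, rfl⟩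
  rw [e, Subgroup.mem_bot] at h1
  exact conj_eq_one_iff.1 h1

theorem no_invol_comm {x e : G} (hx : x ∈ M) (hx1 : x ≠ 1) (he : e * e = 1) (hc : Commute e x) :
    e = 1 := by
  have h1 : orderOf e ∣ Nat.card ↥(Subgroup.centralizer ({x} : Set G)) :=
    Subgroup.orderOf_dvd_natCard _ (Subgroup.mem_centralizer_singleton_iff.2 hc.eq)
  have h2 : orderOf e ∣ 2 := orderOf_dvd_of_pow_eq_one (by rw [sq, he])
  rcases (Nat.dvd_prime Nat.prime_two).1 h2 with h3 | h3
  · exact orderOf_eq_one_iff.1 h3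
  · rw [h3] at h1
    exact absurd (h.odd x hx hx1) (Nat.not_odd_iff_even.2 (even_iff_two_dvd.2 h1))

/-- An involution normalizing `M` inverts it. -/
theorem inverts {e : G} (heN : e ∈ N) (he : e * e = 1) (he1 : e ≠ 1) {m : G} (hm : m ∈ M) :
    e * m * e = m⁻¹ := by
  have hmem : ∀ a : G, a ∈ M → e * a * e ∈ M := fun a ha => by
    have := (Subgroup.mem_normalizer_iff.1 heN a).1 ha
    rwa [inv_of_sq he] at this
  let φ : M → M := fun a => ⟨(a : G)⁻¹ * (e * a * e), mul_mem (inv_mem a.2) (hmem a a.2)⟩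
  have hinj : Function.Injective φ := fun a b hab => by
    have e1 : (a : G)⁻¹ * (e * a * e) = (b : G)⁻¹ * (e * b * e) := congrArg Subtype.val hab
    by_contra hne
    refine he1 (h.no_invol_comm (x := (b : G) * (a : G)⁻¹) (mul_mem b.2 (inv_mem a.2))
      (fun e2 => hne (Subtype.ext (mul_inv_eq_one.1 e2).symm)) he ?_)
    have e2 : e * ((b : G) * (a : G)⁻¹) * e = (b : G) * (a : G)⁻¹ := by
      calc e * ((b : G) * (a : G)⁻¹) * e
          = (e * (b : G) * e) * (e⁻¹ * (a : G)⁻¹ * e) := by group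
        _ = (e * (b : G) * e) * (e * (a : G) * e)⁻¹ := by
            rw [mul_inv_rev, mul_inv_rev, inv_of_sq he, mul_assoc e (a : G)⁻¹ e]
        _ = ((b : G) * ((b : G)⁻¹ * (e * b * e))) * ((a : G) * ((a : G)⁻¹ * (e * a * e)))⁻¹ := by group
        _ = (b : G) * (a : G)⁻¹ := by rw [e1]; group
    calc e * ((b : G) * (a : G)⁻¹) = e * ((b : G) * (a : G)⁻¹) * (e * e) := by rw [he, mul_one]
      _ = (e * ((b : G) * (a : G)⁻¹) * e) * e := by group
      _ = ((b : G) * (a : G)⁻¹) * e := by rw [e2]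
  obtain ⟨a, ha⟩ := (Finite.injective_iff_surjective.1 hinj) ⟨m, hm⟩
  have ha' : (a : G)⁻¹ * (e * a * e) = m := congrArg Subtype.val ha
  rw [← ha']
  calc e * ((a : G)⁻¹ * (e * a * e)) * e = e * (a : G)⁻¹ * e * (a : G) * (e * e) := by group
    _ = e⁻¹ * (a : G)⁻¹ * e⁻¹ * (a : G) := by rw [he, mul_one, inv_of_sq he]
    _ = ((a : G)⁻¹ * (e * a * e))⁻¹ := by group

theorem z_inverts {m : G} (hm : m ∈ M) : z * m * z = m⁻¹ :=
  h.inverts h.z_mem h.z_sq h.z_ne_one hm

theorem comm_M {a b : G} (ha : a ∈ M) (hb : b ∈ M) : a * b = b * a := by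
  have h1 := h.z_inverts (mul_mem ha hb)
  rw [show z * (a * b) * z = (z * a * z) * (z⁻¹ * b * z) by group, inv_of_sq h.z_sq, h.z_inverts ha,
    h.z_inverts hb, mul_inv_rev] at h1
  calc a * b = ((b⁻¹ * a⁻¹))⁻¹ := by group
    _ = (a⁻¹ * b⁻¹)⁻¹ := by rw [← h1]
    _ = b * a := by group

theorem comm_z_M {x : G} (hx : x ∈ M) (hc : Commute z x) : x = 1 := by
  by_contra hx1
  exact h.z_ne_one (h.no_invol_comm hx hx1 h.z_sq hc)

theorem sq_M {x : G} (hx : x ∈ M) (h2 : x * x = 1) : x = 1 := by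
  by_contra hx1
  exact hx1 (h.no_invol_comm hx hx1 h2 (Commute.refl x))

theorem exists_sqrt {x : G} (hx : x ∈ M) : ∃ y ∈ M, y * y = x := by
  let sqr : M → M := fun a => ⟨(a : G) * a, mul_mem a.2 a.2⟩
  have hinj : Function.Injective sqr := fun a b hab => by
    have e1 : (a : G) * a = b * b := congrArg Subtype.val hab
    have e2 := h.sq_M (x := (a : G) * (b : G)⁻¹) (mul_mem a.2 (inv_mem b.2)) (by
      calc (a : G) * (b : G)⁻¹ * ((a : G) * (b : G)⁻¹) = (a : G) * ((b : G)⁻¹ * a) * (b : G)⁻¹ := by group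
        _ = (a : G) * ((a : G) * (b : G)⁻¹) * (b : G)⁻¹ := by rw [h.comm_M (inv_mem b.2) a.2]
        _ = ((a : G) * a) * ((b : G) * b)⁻¹ := by group
        _ = 1 := by rw [e1, mul_inv_cancel])
    exact Subtype.ext (mul_inv_eq_one.1 e2)
  obtain ⟨y, hy⟩ := (Finite.injective_iff_surjective.1 hinj) ⟨x, hx⟩
  exact ⟨y, y.2, congrArg Subtype.val hy⟩

theorem inf_eq_one {x : G} (hx : x ∈ M) (hxD : x ∈ D) : x = 1 :=
  h.comm_z_M hx (Subgroup.mem_centralizer_singleton_iff.1 (Subgroup.mem_inf.1 hxD).2).symm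

theorem dec {n : G} (hn : n ∈ N) : ∃ m ∈ M, ∃ d ∈ D, n = m * d := by
  have hn' : n ∈ D ⊔ M := by rw [sup_comm, h.fac]; exact hn
  exact (CfsgLib.Core.mem_sup_iff_mul' inf_le_left).1 hn'

theorem invol_D {d : G} (hd : d ∈ D) (hd2 : d * d = 1) : d = 1 ∨ d = z := by
  by_cases hd1 : d = 1
  · exact Or.inl hd1
  right
  obtain ⟨x, hx, hx1⟩ := M.bot_or_exists_ne_one.resolve_left h.ne_bot
  have hdz : d * z = z * d := Subgroup.mem_centralizer_singleton_iff.1 (Subgroup.mem_inf.1 hd).2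
  have h1 : (d * z) * (d * z) = 1 := by
    calc (d * z) * (d * z) = d * (z * d) * z := by group
      _ = (d * d) * (z * z) := by rw [← hdz]; group
      _ = 1 := by rw [hd2, h.z_sq, one_mul]
  have hc : Commute (d * z) x := by
    show (d * z) * x = x * (d * z)
    calc (d * z) * x = d * (z * x * z) * z⁻¹ := by group
      _ = d * x⁻¹ * z := by rw [h.z_inverts hx, inv_of_sq h.z_sq]
      _ = (d * x⁻¹ * d) * (d⁻¹ * z) := by group
      _ = x * (d * z) := by
          rw [h.inverts (Subgroup.mem_inf.1 hd).1 hd2 hd1 (inv_mem hx), inv_inv, inv_of_sq hd2]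
  have := h.no_invol_comm hx hx1 h1 hc
  calc d = (d * z) * z⁻¹ := by group
    _ = z := by rw [this, one_mul, inv_of_sq h.z_sq]

theorem invol_N {e : G} (he : e ∈ N) (he2 : e * e = 1) (he1 : e ≠ 1) : ∃ m ∈ M, e = m * z := by
  obtain ⟨m, hm, d, hd, rfl⟩ := h.dec he
  have hdm : d * m * d⁻¹ ∈ M := (Subgroup.mem_normalizer_iff.1 (Subgroup.mem_inf.1 hd).1 m).1 hm
  have hd2 : d * d = 1 := by
    refine h.inf_eq_one ?_ (mul_mem hd hd)
    have : (d * d) = (m * (d * m * d⁻¹))⁻¹ * (m * d * (m * d)) := by group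
    rw [this, he2, mul_one]
    exact inv_mem (mul_mem hm hdm)
  rcases h.invol_D hd hd2 with rfl | rfl
  · exact absurd (h.sq_M (by rwa [mul_one]) he2) he1
  · exact ⟨m, hm, rfl⟩

theorem z_not_mem : z ∉ M := fun hz => h.z_ne_one (h.sq_M hz h.z_sq)

theorem mul_z_invol {m : G} (hm : m ∈ M) : (m * z) * (m * z) = 1 ∧ m * z ≠ 1 := by
  refine ⟨?_, fun e => h.z_not_mem ?_⟩
  · calc (m * z) * (m * z) = m * (z * m * z) := by group
      _ = 1 := by rw [h.z_inverts hm, mul_inv_cancel]
  · rw [eq_inv_of_mul_eq_one_right e]; exact inv_mem hm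

theorem invol_unique {u v : G} (hu : u * u = 1) (hv : v * v = 1) (huN : u ∉ N) (huv : u⁻¹ * v ∈ M) :
    u = v := by
  by_contra hne
  refine huN (h.ti' huv (fun e => hne (inv_mul_eq_one.1 e)) ?_)
  have e : u * (u⁻¹ * v) * u⁻¹ = (u⁻¹ * v)⁻¹ := by
    rw [mul_inv_cancel_left, mul_inv_rev, inv_inv, inv_of_sq hu, inv_of_sq hv]
  rw [e]
  exact inv_mem huv

/-- More involutions than cosets: every coset outside the normalizer has an involution. -/
theorem full (hI : M.index < Nat.card {g : G // orderOf g = 2}) : Full M := by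
  classical
  intro g hg
  by_contra hno
  push Not at hno
  have hsq : ∀ u : {g : G // orderOf g = 2}, (u : G) * u = 1 := fun u => by
    have e := pow_orderOf_eq_one (u : G)
    rwa [u.2, sq] at e
  have hne : ∀ u : {g : G // orderOf g = 2}, (u : G) ≠ 1 := fun u e => by
    have := u.2
    rw [e, orderOf_one] at this
    exact absurd this (by norm_num)
  let f : {g : G // orderOf g = 2} → G ⧸ M := fun u =>
    if (u : G) ∈ N then (((u : G) * z * g : G) : G ⧸ M) else ((u : G) : G ⧸ M)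
  have hmem : ∀ m ∈ M, ∀ v : G, (v : G) * v = 1 → (m * g : G)⁻¹ * v ∉ M := by
    intro m hm v hv hin
    refine hno ((g⁻¹ * m⁻¹ * v) * m) (mul_mem (by simpa [mul_assoc] using hin) hm) ?_
    rw [show g * (g⁻¹ * m⁻¹ * v * m) = m⁻¹ * v * m by group]
    calc m⁻¹ * v * m * (m⁻¹ * v * m) = m⁻¹ * (v * v) * m := by group
      _ = 1 := by rw [hv, mul_one, inv_mul_cancel]
  have hcoset : ∀ u : {g : G // orderOf g = 2}, (u : G) ∈ N → (u : G) * z ∈ M := fun u hu => by
    obtain ⟨m, hm, hum⟩ := h.invol_N hu (hsq u) (hne u)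
    rw [hum, mul_assoc, h.z_sq, mul_one]
    exact hm
  have hinj : Function.Injective f := by
    intro u v huv
    by_cases hu : (u : G) ∈ N <;> by_cases hv : (v : G) ∈ N <;>
      simp only [f, hu, hv, if_true, if_false] at huv <;> rw [QuotientGroup.eq] at huv
    · have h1 : ((u : G) * z)⁻¹ * ((v : G) * z) ∈ M := mul_mem (inv_mem (hcoset u hu)) (hcoset v hv)
      by_contra hne'
      refine hg (inv_mem_iff.1 (h.ti' h1 (fun e => hne' (Subtype.ext (mul_right_cancel (inv_mul_eq_one.1 e)))) ?_))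
      simpa [mul_assoc] using huv
    · exact absurd huv (hmem _ (hcoset u hu) _ (hsq v))
    · refine absurd ?_ (hmem _ (hcoset v hv) _ (hsq u))
      simpa [mul_assoc] using inv_mem huv
    · exact Subtype.ext (h.invol_unique (hsq u) (hsq v) hu huv)
  have := Nat.card_le_card_of_injective f hinj
  rw [← Subgroup.index_eq_card] at this
  omega

end Setup

end CfsgLib.LocalEvenB.TICount
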