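import Cfsg.Agent.Lib.LocalEvenB.TICount.Setup

/-!
# The centralizer of the inverting involution

Outside `N = N_G(M)` every element of `C(z)` is an involution inverting `D = C_N(z)`, `D` is abelian
and fixes no non-trivial element of `M`, and `G \ N = M (C(z) \ D) M` uniquely.
-/

set_option autoImplicit false

namespace CfsgLib.LocalEvenB.TICount

open Subgroup Cfsg

variable {G : Type*} [Group G] [Finite G] {M : Subgroup G} {z : G}

local notation "N" => Subgroup.normalizer (M : Set G)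
local notation "D" => cD M z

namespace Setup

variable (h : Setup M z)
include h

theorem le_N : M ≤ N := Subgroup.le_normalizer

theorem z_mem_D : z ∈ D :=
  Subgroup.mem_inf.2 ⟨h.z_mem, Subgroup.mem_centralizer_singleton_iff.2 rfl⟩

variable (hF : Full M)
include hF

/-- Each coset of `M` in `N` has an element inverted by `u`. -/
theorem exists_inverted {u : G} (hu : u * u = 1) (huN : u ∉ N) {n : G} (hn : n ∈ N) :
    ∃ y ∈ N, y⁻¹ * n ∈ M ∧ u * y * u = y⁻¹ := by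
  obtain ⟨m, hm, hinv⟩ := hF (u * n) (fun hmem => huN (by
    simpa using mul_mem hmem (inv_mem hn)))
  refine ⟨n * m, mul_mem hn (h.le_N hm), by simpa [mul_assoc] using hm, eq_inv_of_mul_eq_one_left ?_⟩
  calc u * (n * m) * u * (n * m) = (u * n * m) * (u * n * m) := by group
    _ = 1 := hinv

/-- `M` meets `N ∩ uNu` trivially. -/
theorem meet_M {u : G} (hu : u * u = 1) (huN : u ∉ N) {x : G} (hx : x ∈ M) (hxN : u * x * u ∈ N) :
    x = 1 := by
  by_contra hx1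
  obtain ⟨y, hy⟩ : ∃ y, y = u * x * u := ⟨_, rfl⟩
  rw [← hy] at hxN
  obtain ⟨w, hwN, hwz, hwu⟩ := exists_inverted h hF hu huN h.z_mem
  obtain ⟨m0, hm0, hwm⟩ : ∃ m0 ∈ M, w = m0 * z := by
    refine ⟨w * z, ?_, by rw [mul_assoc, h.z_sq, mul_one]⟩
    have h1 := (Subgroup.mem_normalizer_iff.1 hwN (w⁻¹ * z)).1 hwz
    have h2 : w * (w⁻¹ * z) * w⁻¹ = (w * z)⁻¹ := by rw [mul_inv_rev, inv_of_sq h.z_sq]; group
    rw [h2] at h1
    exact inv_mem_iff.1 h1
  obtain ⟨hw2, hw1⟩ := h.mul_z_invol hm0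
  rw [← hwm] at hw2 hw1
  rw [inv_of_sq hw2] at hwu
  have hwy : w * y * w = y⁻¹ := by
    calc w * y * w = (u * w * u) * (u * x * u) * (u * w * u) := by rw [hwu, hy]
      _ = u * w * (u * u) * x * (u * u) * w * u := by group
      _ = u * (w * x * w) * u := by rw [hu]; group
      _ = u⁻¹ * x⁻¹ * u⁻¹ := by rw [h.inverts hwN hw2 hw1 hx, inv_of_sq hu]
      _ = y⁻¹ := by rw [hy]; group
  obtain ⟨m, hm, d, hd, hyd⟩ := h.dec hxN
  have hdN : d ∈ N := (Subgroup.mem_inf.1 hd).1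
  have hdz : d * z = z * d := Subgroup.mem_centralizer_singleton_iff.1 (Subgroup.mem_inf.1 hd).2
  have hd2 : d * d = 1 := by
    refine h.inf_eq_one ?_ (mul_mem hd hd)
    have h1 : w * d * w = m0 * (d * m0⁻¹ * d⁻¹) * d := by
      calc w * d * w = m0 * (z * d) * (m0 * z) := by rw [hwm]; group
        _ = m0 * d * (z * m0 * z) := by rw [← hdz]; group
        _ = m0 * (d * m0⁻¹ * d⁻¹) * d := by rw [h.z_inverts hm0]; group
    have h2 : (w * m * w) * (m0 * (d * m0⁻¹ * d⁻¹) * d) = d⁻¹ * m⁻¹ := by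
      calc (w * m * w) * (m0 * (d * m0⁻¹ * d⁻¹) * d) = w * m * (w * w) * (d * w) := by rw [← h1]; group
        _ = w * y * w := by rw [hw2, hyd]; group
        _ = _ := by rw [hwy, hyd, mul_inv_rev]
    rw [h.inverts hwN hw2 hw1 hm] at h2
    have h4 : d * d = (m⁻¹ * (m0 * (d * m0⁻¹ * d⁻¹)))⁻¹ * (d⁻¹ * m⁻¹) * d := by
      rw [← h2]; group
    have h5 : d * d = (m⁻¹ * (m0 * (d * m0⁻¹ * d⁻¹)))⁻¹ * (d⁻¹ * m⁻¹ * d) := by rw [h4]; group
    rw [h5]
    refine mul_mem (inv_mem (mul_mem (inv_mem hm) (mul_mem hm0 ?_))) ?_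
    · exact (Subgroup.mem_normalizer_iff.1 hdN _).1 (inv_mem hm0)
    · have := (Subgroup.mem_normalizer_iff.1 (inv_mem hdN) _).1 (inv_mem hm)
      rwa [inv_inv] at this
  rcases h.invol_D hd hd2 with rfl | rfl
  · refine huN (h.ti' hx hx1 ?_)
    rw [inv_of_sq hu, ← hy, hyd, mul_one]
    exact hm
  · have hy2 := (h.mul_z_invol hm).1
    rw [← hyd, hy] at hy2
    refine hx1 (h.sq_M hx ?_)
    calc x * x = u⁻¹ * ((u * x * u) * (u * x * u)) * u⁻¹ * (u * u) := by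
          rw [inv_of_sq hu]; simp only [mul_assoc, hu, mul_one]
          rw [← mul_assoc u u, hu, one_mul, ← mul_assoc u u x, hu, one_mul]
      _ = 1 := by rw [hy2, hu]; simp [inv_of_sq hu, hu]

/-- Every element of `N ∩ uNu` is inverted by `u`. -/
theorem inverted {u : G} (hu : u * u = 1) (huN : u ∉ N) {y : G} (hy : y ∈ N) (hy' : u * y * u ∈ N) :
    u * y * u = y⁻¹ := by
  obtain ⟨y₁, hy₁N, hy₁, hy₁u⟩ := exists_inverted h hF hu huN hy
  have hmem : u * (y₁⁻¹ * y) * u ∈ N := by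
    have : u * (y₁⁻¹ * y) * u = (u * y₁ * u)⁻¹ * (u * y * u) := by
      rw [mul_inv_rev, mul_inv_rev, inv_of_sq hu]
      calc u * (y₁⁻¹ * y) * u = u * y₁⁻¹ * (u * u) * y * u := by rw [hu]; group
        _ = _ := by group
    rw [this, hy₁u, inv_inv]
    exact mul_mem hy₁N hy'
  rw [← inv_mul_eq_one.1 (meet_M h hF hu huN hy₁ hmem)]
  exact hy₁u

/-- A conjugate by `M` of every outside involution centralizes `z`. -/
theorem exists_commute {u : G} (hu : u * u = 1) (huN : u ∉ N) :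
    ∃ m ∈ M, Commute (m⁻¹ * u * m) z := by
  obtain ⟨w, hwN, hwz, hwu⟩ := exists_inverted h hF hu huN h.z_mem
  obtain ⟨m1, hm1, hwm⟩ : ∃ m1 ∈ M, w = m1 * z := by
    refine ⟨w * z, ?_, by rw [mul_assoc, h.z_sq, mul_one]⟩
    have h1 := (Subgroup.mem_normalizer_iff.1 hwN (w⁻¹ * z)).1 hwz
    have h2 : w * (w⁻¹ * z) * w⁻¹ = (w * z)⁻¹ := by rw [mul_inv_rev, inv_of_sq h.z_sq]; group
    rw [h2] at h1
    exact inv_mem_iff.1 h1
  rw [hwm] at hwu
  rw [inv_of_sq (h.mul_z_invol hm1).1] at hwu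
  obtain ⟨m, hm, hmm⟩ := h.exists_sqrt hm1
  refine ⟨m, hm, ?_⟩
  have hz : m * z * m⁻¹ = m1 * z := by
    have := h.z_inverts hm
    calc m * z * m⁻¹ = m * (z * (z * m * z)) := by rw [this]; group
      _ = m * ((z * z) * m * z) := by group
      _ = m1 * z := by rw [h.z_sq, ← hmm]; group
  show m⁻¹ * u * m * z = z * (m⁻¹ * u * m)
  calc m⁻¹ * u * m * z = m⁻¹ * (u * (m * z * m⁻¹) * u) * u⁻¹ * m := by group
    _ = m⁻¹ * (m1 * z) * u * m := by rw [hz, hwu, inv_of_sq hu]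
    _ = z * (m⁻¹ * u * m) := by rw [← hz]; group

/-- An involution outside `N` centralizing `z` inverts `D`. -/
theorem invol_inverts_D {u : G} (hu : u * u = 1) (huN : u ∉ N) (huz : Commute u z) {d : G}
    (hd : d ∈ D) : u * d * u = d⁻¹ := by
  obtain ⟨y, hyN, hyd, hyu⟩ := exists_inverted h hF hu huN (Subgroup.mem_inf.1 hd).1
  have hzu : u * z * u = z := by rw [huz.eq, mul_assoc, hu, mul_one]
  have h1 : u * (z * y) * u = (z * y)⁻¹ := inverted h hF hu huN (mul_mem h.z_mem hyN) (by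
    have : u * (z * y) * u = (u * z * u) * (u * y * u) := by
      calc u * (z * y) * u = u * z * (u * u) * y * u := by rw [hu]; group
        _ = _ := by group
    rw [this, hzu, hyu]
    exact mul_mem h.z_mem (inv_mem hyN))
  have h2 : u * (z * y) * u = z * y⁻¹ := by
    calc u * (z * y) * u = (u * z) * y * u := by group
      _ = z * (u * y * u) := by rw [huz.eq]; group
      _ = z * y⁻¹ := by rw [hyu]
  rw [h2, mul_inv_rev, inv_of_sq h.z_sq] at h1
  have hyD : y ∈ D := Subgroup.mem_inf.2 ⟨hyN, Subgroup.mem_centralizer_singleton_iff.2 (by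
    calc y * z = (y * z * y⁻¹) * y := by group
      _ = (y * (z * y⁻¹)) * y := by group
      _ = (y * (y⁻¹ * z)) * y := by rw [h1]
      _ = z * y := by group)⟩
  rw [← inv_mul_eq_one.1 (h.inf_eq_one hyd (mul_mem (inv_mem hyD) hd))]
  exact hyu

/-- Elements of `C(z)` outside `N` are involutions. -/
theorem sq_of_commute {x : G} (hx : Commute x z) (hxN : x ∉ N) : x * x = 1 := by
  obtain ⟨m, hm, hv⟩ := hF x hxN
  obtain ⟨v, rfl⟩ : ∃ v, v = x * m := ⟨_, rfl⟩
  have hvN : x * m ∉ N := fun hmem => hxN (by simpa using mul_mem hmem (inv_mem (h.le_N hm)))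
  have h1 : (x * m) * z * (x * m) ∈ N := by
    have : (x * m) * z * (x * m) = m⁻¹ * z * m := by
      calc (x * m) * z * (x * m) = (x * m)⁻¹ * z * (x * m) := by rw [inv_of_sq hv]
        _ = m⁻¹ * (x⁻¹ * (z * x)) * m := by group
        _ = m⁻¹ * z * m := by rw [← hx.eq, inv_mul_cancel_left]
    rw [this]
    exact mul_mem (mul_mem (inv_mem (h.le_N hm)) h.z_mem) (h.le_N hm)
  have h2 := inverted h hF hv hvN h.z_mem h1
  rw [inv_of_sq h.z_sq] at h2
  have h3 : Commute (x * m) z := by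
    show (x * m) * z = z * (x * m)
    calc (x * m) * z = ((x * m) * z * (x * m)) * (x * m)⁻¹ := by group
      _ = z * (x * m) := by rw [h2, inv_of_sq hv]
  have h4 : Commute m z := by
    have := hx.inv_left.mul_left h3
    rwa [inv_mul_cancel_left] at this
  rw [h.comm_z_M hm h4.symm, mul_one] at hv
  exact hv

variable (hnn : Subgroup.normalizer (M : Set G) ≠ ⊤)
include hnn

theorem exists_outside : ∃ u : G, u * u = 1 ∧ u ∉ N ∧ Commute u z := by
  obtain ⟨g, hg⟩ : ∃ g, g ∉ N := by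
    by_contra hall
    push Not at hall
    exact hnn (eq_top_iff.2 fun g _ => hall g)
  obtain ⟨m, hm, hv⟩ := hF g hg
  have hvN : g * m ∉ N := fun hmem => hg (by simpa using mul_mem hmem (inv_mem (h.le_N hm)))
  obtain ⟨m', hm', hc⟩ := exists_commute h hF hv hvN
  refine ⟨m'⁻¹ * (g * m) * m', ?_, fun hmem => hvN ?_, hc⟩
  · calc m'⁻¹ * (g * m) * m' * (m'⁻¹ * (g * m) * m') = m'⁻¹ * ((g * m) * (g * m)) * m' := by group
      _ = 1 := by rw [hv, mul_one, inv_mul_cancel]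
  · have := mul_mem (mul_mem (h.le_N hm') hmem) (inv_mem (h.le_N hm'))
    simpa [mul_assoc] using this

theorem comm_D {a b : G} (ha : a ∈ D) (hb : b ∈ D) : a * b = b * a := by
  obtain ⟨u, hu, huN, huz⟩ := exists_outside h hF hnn
  have e := invol_inverts_D h hF hu huN huz (mul_mem ha hb)
  have e2 : u * (a * b) * u = (u * a * u) * (u * b * u) := by
    calc u * (a * b) * u = u * a * (u * u) * b * u := by rw [hu]; group
      _ = _ := by group
  rw [e2, invol_inverts_D h hF hu huN huz ha, invol_inverts_D h hF hu huN huz hb, mul_inv_rev] at e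
  calc a * b = ((b⁻¹ * a⁻¹))⁻¹ := by group
    _ = (a⁻¹ * b⁻¹)⁻¹ := by rw [← e]
    _ = b * a := by group

/-- `D` acts without fixed points on `M`. -/
theorem fpf_D {d m : G} (hd : d ∈ D) (hm : m ∈ M) (hm1 : m ≠ 1) (hc : Commute d m) : d = 1 := by
  obtain ⟨u, hu, huN, huz⟩ := exists_outside h hF hnn
  obtain ⟨g, rfl⟩ : ∃ g, g = m * u := ⟨_, rfl⟩
  have hui := inv_of_sq hu
  obtain ⟨v, hv⟩ : ∃ v, v = u * (m⁻¹ * z * m) * u := ⟨_, rfl⟩
  have hv2 : v * v = 1 := by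
    rw [hv]
    calc u * (m⁻¹ * z * m) * u * (u * (m⁻¹ * z * m) * u) = u * m⁻¹ * z * m * (u * u) * m⁻¹ * z * m * u := by group
      _ = u * m⁻¹ * (z * z) * m * u := by rw [hu]; group
      _ = 1 := by rw [h.z_sq]; simp [mul_assoc, hu]
  have hvN : v ∉ N := by
    intro hmem
    refine hm1 (h.sq_M hm (meet_M h hF hu huN (mul_mem hm hm) ?_))
    have e : m⁻¹ * z * m = z * (m * m) := by
      calc m⁻¹ * z * m = (z * m * z) * z * m := by rw [h.z_inverts hm]
        _ = z * m * (z * z) * m := by group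
        _ = z * (m * m) := by rw [h.z_sq]; group
    rw [e] at hv
    have e2 : u * (m * m) * u = z⁻¹ * v := by
      rw [hv]
      calc u * (m * m) * u = z⁻¹ * ((z * u) * (m * m) * u) := by group
        _ = z⁻¹ * (u * (z * (m * m)) * u) := by rw [← huz.eq]; group
    rw [e2]
    exact mul_mem (inv_mem h.z_mem) hmem
  have hdz : d * z = z * d := Subgroup.mem_centralizer_singleton_iff.1 (Subgroup.mem_inf.1 hd).2
  have hdN := (Subgroup.mem_inf.1 hd).1
  have hcz : Commute d (m⁻¹ * z * m) := (hc.inv_right.mul_right (show Commute d z from hdz)).mul_right hc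
  have hud := invol_inverts_D h hF hu huN huz hd
  have hvd : v * d * v = d := by
    have hcu : Commute d v := by
      show d * v = v * d
      rw [hv]
      have e1 : d * u = u * d⁻¹ := by
        rw [← hud, ← mul_assoc, ← mul_assoc, hu, one_mul]
      have e2 : u * d = d⁻¹ * u := by
        rw [← hud]; simp [mul_assoc, hu]
      calc d * (u * (m⁻¹ * z * m) * u) = (d * u) * (m⁻¹ * z * m) * u := by group
        _ = u * (d⁻¹ * (m⁻¹ * z * m)) * u := by rw [e1]; group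
        _ = u * (m⁻¹ * z * m) * (d⁻¹ * u) := by rw [hcz.inv_left.eq]; group
        _ = u * (m⁻¹ * z * m) * u * d := by rw [← e2]; group
    rw [hcu.symm.eq, mul_assoc, hv2, mul_one]
  have h2 := inverted h hF hv2 hvN hdN (by rw [hvd]; exact hdN)
  rw [hvd] at h2
  rcases h.invol_D hd (by nth_rewrite 2 [h2]; rw [mul_inv_cancel]) with e | rfl
  · exact e
  · exact absurd (h.comm_z_M hm hc) hm1

omit hnn

/-- `G \ N = M (C(z) \ N) M`. -/
theorem decompose {g : G} (hg : g ∉ N) :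
    ∃ m ∈ M, ∃ x, Commute x z ∧ x ∉ N ∧ ∃ m' ∈ M, g = m * x * m' := by
  obtain ⟨a, ha, hv⟩ := hF g hg
  have hvN : g * a ∉ N := fun hmem => hg (by simpa using mul_mem hmem (inv_mem (h.le_N ha)))
  obtain ⟨m, hm, hc⟩ := exists_commute h hF hv hvN
  refine ⟨m, hm, _, hc, fun hmem => hvN ?_, m⁻¹ * a⁻¹, mul_mem (inv_mem hm) (inv_mem ha), by group⟩
  have := mul_mem (mul_mem (h.le_N hm) hmem) (inv_mem (h.le_N hm))
  simpa [mul_assoc] using this

theorem decompose_unique {x x₁ m m₁ m' m₁' : G} (hx : Commute x z) (hxN : x ∉ N) (hx₁ : Commute x₁ z)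
    (hx₁N : x₁ ∉ N) (hm : m ∈ M) (hm₁ : m₁ ∈ M) (hm' : m' ∈ M) (hm₁' : m₁' ∈ M)
    (he : m * x * m' = m₁ * x₁ * m₁') : m = m₁ ∧ x = x₁ ∧ m' = m₁' := by
  obtain ⟨μ, hμ⟩ : ∃ μ, μ = m₁⁻¹ * m := ⟨_, rfl⟩
  have hμM : μ ∈ M := hμ ▸ mul_mem (inv_mem hm₁) hm
  have e1 : μ = x₁ * (m₁' * m'⁻¹) * x⁻¹ := by
    calc μ = m₁⁻¹ * (m * x * m') * m'⁻¹ * x⁻¹ := by rw [hμ]; group
      _ = _ := by rw [he]; group
  have hx1sq := sq_of_commute h hF hx₁ hx₁N
  have hν : m₁' * m'⁻¹ ∈ M := mul_mem hm₁' (inv_mem hm')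
  obtain ⟨ν, hνd⟩ : ∃ ν, ν = m₁' * m'⁻¹ := ⟨_, rfl⟩
  rw [← hνd] at e1 hν
  -- `x₁ μ x₁ z x₁ μ⁻¹ x₁` lies in `N`
  have e2 : x₁ * (μ * μ) * x₁ = (ν * z * ν⁻¹) * z⁻¹ := by
    have e3 : μ * z * μ⁻¹ = μ * μ * z := by
      calc μ * z * μ⁻¹ = μ * z * (z * μ * z) := by rw [h.z_inverts hμM]
        _ = μ * (z * z) * μ * z := by group
        _ = _ := by rw [h.z_sq]; group
    calc x₁ * (μ * μ) * x₁ = x₁ * (μ * μ * z) * (z⁻¹ * x₁) := by group
      _ = x₁ * (μ * μ * z) * (x₁ * z⁻¹) := by rw [(hx₁.inv_right).eq]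
      _ = (x₁ * (μ * z * μ⁻¹) * x₁) * z⁻¹ := by rw [e3]; group
      _ = ((x₁ * x₁) * ν * (x⁻¹ * z * x) * ν⁻¹ * (x₁⁻¹ * x₁)) * z⁻¹ := by rw [e1]; group
      _ = (ν * z * ν⁻¹) * z⁻¹ := by
          rw [hx1sq, show x⁻¹ * z * x = z by rw [mul_assoc, ← hx.eq, inv_mul_cancel_left]]; group
  have hμ1 : μ = 1 := h.sq_M hμM (meet_M h hF hx1sq hx₁N (mul_mem hμM hμM) (by
    rw [e2]
    exact mul_mem (mul_mem (mul_mem (h.le_N hν) h.z_mem) (inv_mem (h.le_N hν))) (inv_mem h.z_mem)))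
  have hm_eq : m = m₁ := (inv_mul_eq_one.1 (hμ ▸ hμ1)).symm
  have hcν : Commute ν z := by
    have : ν = x₁⁻¹ * x := by
      calc ν = x₁⁻¹ * (x₁ * ν * x⁻¹) * x := by group
        _ = x₁⁻¹ * x := by rw [← e1, hμ1, mul_one]
    rw [this]
    exact hx₁.inv_left.mul_left hx
  have hν1 := h.comm_z_M hν hcν.symm
  rw [hν1, hμ1, mul_one] at e1
  exact ⟨hm_eq, (eq_of_mul_inv_eq_one e1.symm).symm, (mul_inv_eq_one.1 (hνd ▸ hν1)).symm⟩

end Setup

end CfsgLib.LocalEvenB.TICount
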