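import Cfsg.Agent.Lib.LocalEvenB.TICount.Counting
import Cfsg.Agent.Lib.Perm.ZassenhausAbelianMain
import Cfsg.Agent.Lib.Perm.SharplyThree
import Cfsg.Prelude.Def_Transfer
import Cfsg.Agent.Lib.Classical.SmallIso
import Mathlib.GroupTheory.GroupAction.MultipleTransitivity
import Mathlib.FieldTheory.Finite.GaloisField

/-!
# The doubly transitive case: `PGL₂(q)` and `PSL₂(q)`, `q ≡ 1 (mod 4)`
-/

set_option autoImplicit false

namespace CfsgLib.LocalEvenB.TICount

open Subgroup Cfsg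

variable {G : Type*} [Group G] [Finite G] {M : Subgroup G} {z : G}

local notation "N" => Subgroup.normalizer (M : Set G)
local notation "D" => cD M z

theorem fix_mk {H : Subgroup G} {g y : G} :
    g • (y : G ⧸ H) = (y : G ⧸ H) ↔ y⁻¹ * g * y ∈ H := by
  rw [MulAction.Quotient.smul_mk, smul_eq_mul, QuotientGroup.eq]
  constructor <;> intro h <;> simpa [mul_assoc] using inv_mem h

/-- The data of the doubly transitive case. -/
structure TwoCase (M : Subgroup G) (z x₀ : G) : Prop where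
  setup : Setup M z
  full : Full M
  nn : Subgroup.normalizer (M : Set G) ≠ ⊤
  comm : Commute x₀ z
  not_mem : x₀ ∉ Subgroup.normalizer (M : Set G)
  cov : ∀ x, Commute x z → x ∉ Subgroup.normalizer (M : Set G) → ∃ d ∈ cD M z, x = x₀ * d
  card : Nat.card {x : G // Commute x z ∧ x ∉ Subgroup.normalizer (M : Set G)} = Nat.card (cD M z)

namespace TwoCase

variable {x₀ : G} (c : TwoCase M z x₀)
include c

theorem x₀_sq : x₀ * x₀ = 1 := c.setup.sq_of_commute c.full c.comm c.not_mem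

theorem three_le : 3 ≤ Nat.card M := by
  obtain ⟨x, hx, hx1⟩ := M.bot_or_exists_ne_one.resolve_left c.setup.ne_bot
  have h2 : (1 : ℕ) < Nat.card M := by
    refine Finite.one_lt_card_iff_nontrivial.2 ⟨⟨⟨x, hx⟩, 1, fun e => hx1 (congrArg Subtype.val e)⟩⟩
  by_contra hlt
  have hcard : Nat.card M = 2 := by omega
  refine hx1 (c.setup.sq_M hx ?_)
  have := pow_card_eq_one' (x := (⟨x, hx⟩ : M))
  rw [hcard] at this
  simpa [sq] using congrArg Subtype.val this

theorem stab_base : MulAction.stabilizer G ((1 : G) : G ⧸ N) = N := by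
  ext g
  rw [MulAction.mem_stabilizer_iff, fix_mk, inv_one, one_mul, mul_one]

theorem base_ne : ((1 : G) : G ⧸ N) ≠ (x₀ : G ⧸ N) := fun e => c.not_mem (by
  rw [QuotientGroup.eq, inv_one, one_mul] at e
  exact e)

theorem pair_stab :
    MulAction.stabilizer G ((1 : G) : G ⧸ N) ⊓ MulAction.stabilizer G (x₀ : G ⧸ N) = D := by
  ext g
  rw [Subgroup.mem_inf, stab_base c, MulAction.mem_stabilizer_iff, fix_mk, inv_of_sq (x₀_sq c)]
  have hh := c.setup
  constructor
  · rintro ⟨hgN, hg⟩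
    refine Subgroup.mem_inf.2 ⟨hgN, Subgroup.mem_centralizer_singleton_iff.2 ?_⟩
    have e1 := hh.inverted c.full (x₀_sq c) c.not_mem hgN hg
    have hz : x₀ * z * x₀ = z := by rw [c.comm.eq, mul_assoc, x₀_sq c, mul_one]
    have e0 : x₀ * (z * g) * x₀ = (x₀ * z * x₀) * (x₀ * g * x₀) := by
      calc x₀ * (z * g) * x₀ = x₀ * z * (x₀ * x₀) * g * x₀ := by rw [x₀_sq c]; group
        _ = _ := by group
    have e2 := hh.inverted c.full (x₀_sq c) c.not_mem (mul_mem hh.z_mem hgN) (by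
      rw [e0, hz, e1]; exact mul_mem hh.z_mem (inv_mem hgN))
    rw [e0, hz, e1, mul_inv_rev, inv_of_sq hh.z_sq] at e2
    calc g * z = g * (z * g⁻¹) * g := by group
      _ = g * (g⁻¹ * z) * g := by rw [e2]
      _ = z * g := by group
  · intro hg
    refine ⟨(Subgroup.mem_inf.1 hg).1, ?_⟩
    rw [hh.invol_inverts_D c.full (x₀_sq c) c.not_mem c.comm hg]
    exact inv_mem (Subgroup.mem_inf.1 hg).1

theorem exists_mul {γ : G ⧸ N} (hγ : γ ≠ ((1 : G) : G ⧸ N)) :
    ∃ m ∈ M, ((m * x₀ : G) : G ⧸ N) = γ := by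
  obtain ⟨g, rfl⟩ := QuotientGroup.mk_surjective γ
  have hg : g ∉ N := fun hg => hγ (by rw [QuotientGroup.eq, mul_one]; exact inv_mem hg)
  obtain ⟨m, hm, x, hx, hxN, m', hm', rfl⟩ := c.setup.decompose c.full hg
  obtain ⟨d, hd, rfl⟩ := c.cov x hx hxN
  refine ⟨m, hm, ?_⟩
  rw [QuotientGroup.eq, show (m * x₀)⁻¹ * (m * (x₀ * d) * m') = d * m' by group]
  exact mul_mem (Subgroup.mem_inf.1 hd).1 (Subgroup.le_normalizer hm')

theorem mul_inj {m m' : G} (hm : m ∈ M) (hm' : m' ∈ M)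
    (e : ((m * x₀ : G) : G ⧸ N) = ((m' * x₀ : G) : G ⧸ N)) : m = m' := by
  rw [QuotientGroup.eq] at e
  have h1 : x₀ * (m⁻¹ * m') * x₀ ∈ N := by
    rw [mul_inv_rev, inv_of_sq (x₀_sq c)] at e
    simpa [mul_assoc] using e
  exact inv_mul_eq_one.1 (c.setup.meet_M c.full (x₀_sq c) c.not_mem (mul_mem (inv_mem hm) hm') h1)

theorem smul_base {m : G} (hm : m ∈ M) : m • ((1 : G) : G ⧸ N) = ((1 : G) : G ⧸ N) := by
  rw [fix_mk, inv_one, one_mul, mul_one]
  exact Subgroup.le_normalizer hm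

theorem move {γ δ : G ⧸ N} (h : γ ≠ δ) :
    ∃ g : G, g • ((1 : G) : G ⧸ N) = γ ∧ g • (x₀ : G ⧸ N) = δ := by
  obtain ⟨g, rfl⟩ := QuotientGroup.mk_surjective γ
  have hne : g⁻¹ • δ ≠ ((1 : G) : G ⧸ N) := fun e => h (by
    rw [inv_smul_eq_iff.1 e, MulAction.Quotient.smul_mk, smul_eq_mul, mul_one])
  obtain ⟨m, hm, e⟩ := exists_mul c hne
  refine ⟨g * m, ?_, ?_⟩
  · rw [mul_smul, smul_base c hm, MulAction.Quotient.smul_mk, smul_eq_mul, mul_one]
  · rw [mul_smul, show m • (x₀ : G ⧸ N) = ((m * x₀ : G) : G ⧸ N) from rfl, e, smul_inv_smul]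

theorem two_pre : MulAction.IsMultiplyPretransitive G (G ⧸ N) 2 := by
  rw [MulAction.is_two_pretransitive_iff]
  intro p q r s hpq hrs
  obtain ⟨g, hg1, hg2⟩ := move c hpq
  obtain ⟨k, hk1, hk2⟩ := move c hrs
  exact ⟨k * g⁻¹, by rw [mul_smul, inv_smul_eq_iff.2 hg1.symm, hk1],
    by rw [mul_smul, inv_smul_eq_iff.2 hg2.symm, hk2]⟩

/-- `g m x₀ N = (g m g⁻¹) x₀ N` for `g ∈ D`. -/
theorem smul_pt {d m : G} (hd : d ∈ D) :
    d • ((m * x₀ : G) : G ⧸ N) = ((d * m * d⁻¹ * x₀ : G) : G ⧸ N) := by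
  have hd' : d ∈ MulAction.stabilizer G (x₀ : G ⧸ N) := by
    rw [← pair_stab c] at hd
    exact (Subgroup.mem_inf.1 hd).2
  have e : ∀ w : G, ((w * x₀ : G) : G ⧸ N) = w • (x₀ : G ⧸ N) := fun w => rfl
  rw [e, e, ← mul_smul, show d * m = d * m * d⁻¹ * d by group, mul_smul,
    MulAction.mem_stabilizer_iff.1 hd', show d * m * d⁻¹ * d * d⁻¹ = d * m * d⁻¹ by group]

theorem three_pair {g : G} {γ : G ⧸ N} (h1 : g • ((1 : G) : G ⧸ N) = ((1 : G) : G ⧸ N))
    (h2 : g • (x₀ : G ⧸ N) = (x₀ : G ⧸ N)) (h3 : g • γ = γ) (hγ1 : γ ≠ ((1 : G) : G ⧸ N))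
    (hγ2 : γ ≠ (x₀ : G ⧸ N)) : g = 1 := by
  have hg : g ∈ D := by
    rw [← pair_stab c]
    exact Subgroup.mem_inf.2 ⟨h1, h2⟩
  obtain ⟨m, hm, rfl⟩ := exists_mul c hγ1
  have hm1 : m ≠ 1 := fun e => hγ2 (by rw [e, one_mul])
  rw [smul_pt c hg] at h3
  have e := mul_inj c ((Subgroup.mem_normalizer_iff.1 (Subgroup.mem_inf.1 hg).1 m).1 hm) hm h3
  exact c.setup.fpf_D c.full c.nn hg hm hm1 (mul_inv_eq_iff_eq_mul.1 e)

theorem three {g : G} {p q r : G ⧸ N} (hpq : p ≠ q) (hqr : q ≠ r) (hpr : p ≠ r) (hp : g • p = p)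
    (hq : g • q = q) (hr : g • r = r) : g = 1 := by
  obtain ⟨k, hk1, hk2⟩ := move c hpq
  have hc : ∀ v : G ⧸ N, g • v = v → (k⁻¹ * g * k) • (k⁻¹ • v) = k⁻¹ • v := fun v hv => by
    rw [mul_smul, smul_inv_smul, mul_smul, hv]
  have e := three_pair c (g := k⁻¹ * g * k) (γ := k⁻¹ • r)
    (by have := hc p hp; rwa [inv_smul_eq_iff.2 hk1.symm] at this)
    (by have := hc q hq; rwa [inv_smul_eq_iff.2 hk2.symm] at this) (hc r hr)
    (fun e => hpr (by rw [inv_smul_eq_iff.1 e, hk1]))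
    (fun e => hqr (by rw [inv_smul_eq_iff.1 e, hk2]))
  calc g = k * (k⁻¹ * g * k) * k⁻¹ := by group
    _ = 1 := by rw [e, mul_one, mul_inv_cancel]

theorem card_G : Nat.card G = Nat.card M * Nat.card D * (Nat.card M + 1) := by
  rw [c.setup.card_G c.full, c.card]
  ring

theorem card_points : Nat.card (G ⧸ N) = Nat.card M + 1 := by
  have h1 := Subgroup.card_eq_card_quotient_mul_card_subgroup N
  rw [card_G c, c.setup.card_N, mul_comm] at h1
  exact (Nat.eq_of_mul_eq_mul_right (Nat.mul_pos Nat.card_pos Nat.card_pos) h1).symm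

theorem faithful : FaithfulSMul G (G ⧸ N) := by
  refine ⟨fun {g g'} e => ?_⟩
  haveI := Fintype.ofFinite (G ⧸ N)
  have h3 : 2 < Fintype.card (G ⧸ N) := by
    rw [← Nat.card_eq_fintype_card, card_points c]
    have := three_le c
    omega
  obtain ⟨p, q, r, hpq, hpr, hqr⟩ := Fintype.two_lt_card_iff.1 h3
  have hfix : ∀ v : G ⧸ N, (g'⁻¹ * g) • v = v := fun v => by rw [mul_smul, e, inv_smul_smul]
  exact (inv_mul_eq_one.1 (three c hpq hqr hpr (hfix p) (hfix q) (hfix r))).symm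

theorem two_le_D : 2 ≤ Nat.card D ∧ Even (Nat.card D) := by
  have h1 : orderOf z ∣ Nat.card D :=
    Subgroup.orderOf_dvd_natCard _ c.setup.z_mem_D
  rw [c.setup.ord_z] at h1
  exact ⟨Nat.le_of_dvd Nat.card_pos h1, even_iff_two_dvd.2 h1⟩

/-- A nontrivial `D`-invariant subgroup of `M` has more elements than `D`. -/
theorem card_D_lt {O : Subgroup G} (hO : O ≤ M) (hinv : ∀ d ∈ D, ∀ x ∈ O, d * x * d⁻¹ ∈ O)
    (hO1 : O ≠ ⊥) : Nat.card D + 1 ≤ Nat.card O := by
  obtain ⟨x, hx, hx1⟩ := O.bot_or_exists_ne_one.resolve_left hO1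
  have h1 : Nat.card (Option D) ≤ Nat.card O := by
    refine Nat.card_le_card_of_injective (fun o : Option D => o.elim (1 : O)
      (fun d => (⟨(d : G) * x * (d : G)⁻¹, hinv d d.2 x hx⟩ : O))) ?_
    rintro (_ | d) (_ | d') e
    · rfl
    · exact absurd (conj_eq_one_iff.1 (congrArg Subtype.val e).symm) hx1
    · exact absurd (conj_eq_one_iff.1 (congrArg Subtype.val e)) hx1
    · have e' : (d : G) * x * (d : G)⁻¹ = d' * x * (d' : G)⁻¹ := congrArg Subtype.val e
      have := c.setup.fpf_D c.full c.nn (mul_mem (inv_mem d'.2) d.2) (hO hx) hx1 (by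
        show (d' : G)⁻¹ * d * x = x * ((d' : G)⁻¹ * d)
        calc (d' : G)⁻¹ * d * x = (d' : G)⁻¹ * (d * x * (d : G)⁻¹) * d := by group
          _ = x * ((d' : G)⁻¹ * d) := by rw [e']; group)
      exact congrArg some (Subtype.ext (inv_mul_eq_one.1 this).symm)
  rwa [Finite.card_option] at h1

/-- `M` is elementary abelian when its order is a prime power and `D` is large. -/
theorem elementary {p f : ℕ} [Fact p.Prime] (hMc : Nat.card M = p ^ f)
    (hD : Nat.card M ≤ 2 * Nat.card D + 1) : Cfsg.IsElementaryAbelian p M := by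
  refine ⟨⟨⟨fun a b => Subtype.ext (c.setup.comm_M a.2 b.2)⟩⟩, ?_⟩
  have hpp : p.Prime := Fact.out
  let O : Subgroup G :=
    { carrier := {x | x ∈ M ∧ x ^ p = 1}
      one_mem' := ⟨one_mem _, one_pow p⟩
      mul_mem' := fun {x y} hx hy => ⟨mul_mem hx.1 hy.1, by
        rw [Commute.mul_pow (c.setup.comm_M hx.1 hy.1), hx.2, hy.2, one_mul]⟩
      inv_mem' := fun {x} hx => ⟨inv_mem hx.1, by rw [inv_pow, hx.2, inv_one]⟩ }
  have hOM : O ≤ M := fun x hx => hx.1
  have hO1 : O ≠ ⊥ := by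
    have hf : f ≠ 0 := fun e => by
      have := three_le c
      rw [hMc, e] at this
      simp at this
    obtain ⟨x, hx⟩ := exists_prime_orderOf_dvd_card' (G := M) p (hMc ▸ dvd_pow_self p hf)
    intro e
    have h1 : (x : G) ∈ O := ⟨x.2, by rw [← Subgroup.orderOf_coe] at hx; rw [← hx, pow_orderOf_eq_one]⟩
    rw [e, Subgroup.mem_bot] at h1
    rw [← Subgroup.orderOf_coe, h1, orderOf_one] at hx
    exact hpp.one_lt.ne hx
  have h1 := card_D_lt c hOM (fun d hd x hx =>
    ⟨(Subgroup.mem_normalizer_iff.1 (Subgroup.mem_inf.1 hd).1 x).1 hx.1,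
      by rw [conj_pow, hx.2, mul_one, mul_inv_cancel]⟩) hO1
  obtain ⟨i, hi, hi'⟩ := (Nat.dvd_prime_pow hpp).1 (hMc ▸ Subgroup.card_dvd_of_le hOM)
  have hif : i = f := by
    by_contra hne
    have hlt : p ^ (i + 1) ≤ p ^ f := Nat.pow_le_pow_right hpp.pos (by omega)
    rw [pow_succ] at hlt
    have : p ^ i * 2 ≤ p ^ i * p := Nat.mul_le_mul_left _ hpp.two_le
    omega
  have hOeq : O = M := Subgroup.eq_of_le_of_card_ge hOM (by rw [hMc, hi', hif])
  intro x hx
  rw [← hOeq] at hx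
  exact hx.2

theorem sharply (hD : Nat.card D + 1 = Nat.card M) :
    MulAction.IsMultiplyPretransitive G (G ⧸ N) 3 ∧
      ∀ t : Fin 3 ↪ G ⧸ N, MulAction.stabilizer G t = ⊥ := by
  set a := ((1 : G) : G ⧸ N)
  set b := (x₀ : G ⧸ N)
  have htrans : ∀ p q : G ⧸ N, p ≠ a → p ≠ b → q ≠ a → q ≠ b → ∃ d ∈ D, d • p = q := by
    intro p q hpa hpb hqa hqb
    let X := {m : M // m ≠ 1}
    have hm1 : ∀ {m : G}, ((m * x₀ : G) : G ⧸ N) ≠ b → m ≠ 1 := fun hne e => hne (by rw [e, one_mul])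
    obtain ⟨m, hm, rfl⟩ := exists_mul c hpa
    obtain ⟨m', hm', rfl⟩ := exists_mul c hqa
    let f : D → X := fun d => ⟨⟨(d : G) * m * (d : G)⁻¹,
      (Subgroup.mem_normalizer_iff.1 (Subgroup.mem_inf.1 d.2).1 m).1 hm⟩,
      fun e => hm1 hpb (conj_eq_one_iff.1 (congrArg Subtype.val e))⟩
    have hinj : Function.Injective f := fun d d' e => by
      have e' : (d : G) * m * (d : G)⁻¹ = d' * m * (d' : G)⁻¹ :=
        congrArg (fun t : X => ((t.1 : M) : G)) e
      have := c.setup.fpf_D c.full c.nn (mul_mem (inv_mem d'.2) d.2) hm (hm1 hpb) (by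
        show (d' : G)⁻¹ * d * m = m * ((d' : G)⁻¹ * d)
        calc (d' : G)⁻¹ * d * m = (d' : G)⁻¹ * (d * m * (d : G)⁻¹) * d := by group
          _ = m * ((d' : G)⁻¹ * d) := by rw [e']; group)
      exact Subtype.ext (inv_mul_eq_one.1 this).symm
    have hX : Nat.card X = Nat.card D := by
      classical
      haveI := Fintype.ofFinite M
      rw [Nat.card_eq_fintype_card, Fintype.card_subtype_compl, Fintype.card_subtype_eq,
        ← Nat.card_eq_fintype_card]
      omega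
    obtain ⟨d, hd⟩ := (hinj.bijective_of_nat_card_le hX.le).2 ⟨⟨m', hm'⟩, fun e => hm1 hqb (congrArg Subtype.val e)⟩
    refine ⟨d, d.2, ?_⟩
    rw [smul_pt c d.2, show (d : G) * m * (d : G)⁻¹ = m' from congrArg (fun t : X => ((t.1 : M) : G)) hd]
  refine ⟨⟨fun s t => ?_⟩, fun t => ?_⟩
  · have hne : ∀ (s : Fin 3 ↪ G ⧸ N) (i j : Fin 3), i ≠ j → s i ≠ s j := fun s i j h e => h (s.injective e)
    obtain ⟨g, hg1, hg2⟩ := move c (hne s 0 1 (by decide))
    obtain ⟨k, hk1, hk2⟩ := move c (hne t 0 1 (by decide))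
    obtain ⟨d, hd, hdm⟩ := htrans (g⁻¹ • s 2) (k⁻¹ • t 2)
      (fun e => hne s 2 0 (by decide) (by rw [inv_smul_eq_iff.1 e, hg1]))
      (fun e => hne s 2 1 (by decide) (by rw [inv_smul_eq_iff.1 e, hg2]))
      (fun e => hne t 2 0 (by decide) (by rw [inv_smul_eq_iff.1 e, hk1]))
      (fun e => hne t 2 1 (by decide) (by rw [inv_smul_eq_iff.1 e, hk2]))
    rw [← pair_stab c] at hd
    obtain ⟨hd1, hd2⟩ := Subgroup.mem_inf.1 hd
    refine ⟨k * d * g⁻¹, Function.Embedding.ext fun i => ?_⟩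
    show (k * d * g⁻¹) • s i = t i
    fin_cases i
    · show (k * d * g⁻¹) • s 0 = t 0
      rw [mul_smul, mul_smul, inv_smul_eq_iff.2 hg1.symm, MulAction.mem_stabilizer_iff.1 hd1, hk1]
    · show (k * d * g⁻¹) • s 1 = t 1
      rw [mul_smul, mul_smul, inv_smul_eq_iff.2 hg2.symm, MulAction.mem_stabilizer_iff.1 hd2, hk2]
    · show (k * d * g⁻¹) • s 2 = t 2
      rw [mul_smul, mul_smul, hdm, smul_inv_smul]
  · rw [Subgroup.eq_bot_iff_forall]
    intro g hg
    have hh : ∀ i, g • t i = t i := fun i => DFunLike.congr_fun (hg : g • t = t) i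
    exact three c (fun e => by simpa using t.injective e) (fun e => by simpa using t.injective e)
      (fun e => by simpa using t.injective e) (hh 0) (hh 1) (hh 2)

theorem pgl_case (hD : Nat.card D + 1 = Nat.card M) :
    ∃ (p f : ℕ) (_ : Fact p.Prime), Nat.card M = p ^ f ∧
      Nonempty (G ≃* Matrix.ProjGenLinGroup (Fin 2) (GaloisField p f)) := by
  classical
  haveI := Fintype.ofFinite (G ⧸ N)
  obtain ⟨h3, hsharp⟩ := sharply c hD
  have hcard : 2 < Fintype.card (G ⧸ N) := by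
    rw [← Nat.card_eq_fintype_card, card_points c]
    have := three_le c
    omega
  obtain ⟨m, hm, hm1⟩ := M.bot_or_exists_ne_one.resolve_left c.setup.ne_bot
  set a := ((1 : G) : G ⧸ N) with ha
  set b := (x₀ : G ⧸ N) with hb
  set γ := ((m * x₀ : G) : G ⧸ N) with hγ
  have hab : a ≠ b := base_ne c
  have haγ : a ≠ γ := fun e => c.not_mem (by
    rw [ha, hγ, QuotientGroup.eq, inv_one, one_mul] at e
    simpa using mul_mem (inv_mem (Subgroup.le_normalizer hm)) e)
  have hbγ : b ≠ γ := fun e => hm1 (mul_inj c (one_mem _) hm (by rw [one_mul]; exact e)).symm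
  obtain ⟨s, hsa, hsb, hsγ⟩ := Perm.SharplyThree.exists_triple h3 hab haγ hbγ hab.symm hbγ haγ
  have hD' : ∀ h : G, h • a = a → h • b = b → h ∈ D := fun h h1 h2 => by
    rw [← pair_stab c]; exact Subgroup.mem_inf.2 ⟨h1, h2⟩
  have hxa : x₀ • a = b := by rw [ha, hb, MulAction.Quotient.smul_mk, smul_eq_mul, mul_one]
  have hxb : x₀ • b = a := by
    rw [ha, hb, MulAction.Quotient.smul_mk, smul_eq_mul, x₀_sq c]
  have hsD : x₀ * s ∈ D := hD' _ (by rw [mul_smul, hsa, hxb]) (by rw [mul_smul, hsb, hxa])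
  obtain ⟨p, f, hp, hpf, he⟩ := Perm.SharplyThree.iso_pgl h3 hsharp hab haγ hbγ hsa hsb hsγ
    (fun h k h1 h2 h3' h4 => c.setup.comm_D c.full c.nn (hD' h h1 h2) (hD' k h3' h4))
    (fun h h1 h2 => by
      have hd := hD' h h1 h2
      have hs : s = x₀ * (x₀ * s) := by rw [← mul_assoc, x₀_sq c, one_mul]
      rw [hs, show x₀ * (x₀ * s) * h * (x₀ * (x₀ * s))⁻¹ =
        x₀ * ((x₀ * s) * h * (x₀ * s)⁻¹) * x₀⁻¹ by group,
        c.setup.comm_D c.full c.nn hsD hd, mul_inv_cancel_right, inv_of_sq (x₀_sq c),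
        c.setup.invol_inverts_D c.full (x₀_sq c) c.not_mem c.comm hd])
  refine ⟨p, f, hp, ?_, he⟩
  rw [← Nat.card_eq_fintype_card, card_points c] at hpf
  omega

/-- Without regular normal subgroup unless `D` is full. -/
theorem zassenhaus (hlt : Nat.card D + 1 < Nat.card M) : Cfsg.IsZassenhausGroup G (G ⧸ N) := by
  refine ⟨faithful c, two_pre c, fun g a b d hab hbd had ha hb hd => three c hab hbd had ha hb hd,
    ⟨z, c.setup.z_ne_one, _, _, base_ne c, ?_⟩, fun E hE htr => ?_⟩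
  · have hz := c.setup.z_mem_D
    rw [← pair_stab c] at hz
    exact Subgroup.mem_inf.1 hz
  · by_contra hno
    push Not at hno
    set a := ((1 : G) : G ⧸ N) with ha
    set b := (x₀ : G ⧸ N) with hb
    -- `E` is regular
    have hinj : ∀ e e' : E, (e : G) • a = (e' : G) • a → e = e' := fun e e' h => by
      have : e'⁻¹ * e ∈ MulAction.stabilizer E a := by
        show ((e'⁻¹ * e : E) : G) • a = a
        rw [Subgroup.coe_mul, Subgroup.coe_inv, mul_smul, h, inv_smul_smul]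
      exact (inv_mul_eq_one.1 (Subgroup.mem_bot.1 ((hno a).le this))).symm
    have hsurj : ∀ γ : G ⧸ N, ∃ e : E, (e : G) • a = γ := fun γ =>
      htr.exists_smul_eq a γ
    have hEcard : Nat.card E = Nat.card M + 1 := by
      rw [← card_points c]
      exact Nat.card_eq_of_bijective (fun e : E => (e : G) • a) ⟨hinj, hsurj⟩
    have hMeven : Even (Nat.card M + 1) := by
      obtain ⟨x, hx, hx1⟩ := M.bot_or_exists_ne_one.resolve_left c.setup.ne_bot
      rcases Nat.even_or_odd (Nat.card M) with he | ho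
      · obtain ⟨y, hy⟩ := exists_prime_orderOf_dvd_card' (G := M) 2 he.two_dvd
        exfalso
        have h1 : (y : G) = 1 := c.setup.sq_M y.2 (by
          have e := pow_orderOf_eq_one y
          rw [hy, sq] at e
          exact congrArg Subtype.val e)
        rw [← Subgroup.orderOf_coe, h1, orderOf_one] at hy
        omega
      · exact ho.add_odd odd_one
    obtain ⟨e₀, he₀⟩ := exists_prime_orderOf_dvd_card' (G := E) 2 (hEcard ▸ hMeven.two_dvd)
    have he₀1 : e₀ ≠ 1 := fun e => by rw [e, orderOf_one] at he₀; omega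
    have hexp : ∀ e : E, e * e = 1 := fun e => by
      by_cases he1 : e = 1
      · rw [he1, one_mul]
      have hne : ∀ v : E, v ≠ 1 → (v : G) • a ≠ a := fun v hv hva => hv (hinj v 1 (by
        rw [hva, Subgroup.coe_one, one_smul]))
      obtain ⟨m, hm, hmγ⟩ := exists_mul c (hne e he1)
      obtain ⟨m₀, hm₀, hm₀γ⟩ := exists_mul c (hne e₀ he₀1)
      obtain ⟨μ, hμ⟩ : ∃ μ, μ = m * m₀⁻¹ := ⟨_, rfl⟩
      have hμM : μ ∈ M := hμ ▸ mul_mem hm (inv_mem hm₀)
      have hconj : μ * (e₀ : G) * μ⁻¹ ∈ E := hE.conj_mem _ e₀.2 μ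
      have : (⟨_, hconj⟩ : E) = e := hinj _ _ (by
        show (μ * (e₀ : G) * μ⁻¹) • a = _
        rw [mul_smul, mul_smul, ha, smul_base c (inv_mem hμM), ← ha, ← hm₀γ, MulAction.Quotient.smul_mk,
          smul_eq_mul, ← hmγ, hμ, ← mul_assoc, inv_mul_cancel_right])
      rw [← this]
      refine Subtype.ext ?_
      have e2 := pow_orderOf_eq_one e₀
      rw [he₀, sq] at e2
      have e3 : (e₀ : G) * e₀ = 1 := congrArg Subtype.val e2
      show μ * (e₀ : G) * μ⁻¹ * (μ * (e₀ : G) * μ⁻¹) = 1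
      calc _ = μ * ((e₀ : G) * e₀) * μ⁻¹ := by group
        _ = 1 := by rw [e3, mul_one, mul_inv_cancel]
    have hcommE : ∀ e e' : E, e * e' = e' * e := fun e e' => by
      calc e * e' = (e * e')⁻¹ := (inv_of_sq (hexp _)).symm
        _ = e' * e := by rw [mul_inv_rev, inv_of_sq (hexp e), inv_of_sq (hexp e')]
    have hz : z • a = a ∧ z • b = b := by
      have hz := c.setup.z_mem_D
      rw [← pair_stab c] at hz
      exact Subgroup.mem_inf.1 hz
    let σ : E → E := fun e => ⟨z * (e : G) * z⁻¹, hE.conj_mem _ e.2 z⟩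
    have hσa : ∀ e : E, ((σ e : E) : G) • a = z • ((e : G) • a) := fun e => by
      show (z * (e : G) * z⁻¹) • a = _
      rw [mul_smul, mul_smul, inv_smul_eq_iff.2 hz.1.symm]
    obtain ⟨eb, heb⟩ := hsurj b
    have hfix : ∀ e : E, σ e = e → e = 1 ∨ e = eb := fun e he => by
      by_cases h1 : (e : G) • a = a
      · exact Or.inl (hinj e 1 (by rw [h1, Subgroup.coe_one, one_smul]))
      by_cases h2 : (e : G) • a = b
      · exact Or.inr (hinj e eb (h2.trans heb.symm))
      exact absurd (three c (base_ne c) (Ne.symm h2) (Ne.symm h1) hz.1 hz.2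
        (by rw [← hσa, he])) c.setup.z_ne_one
    have hτ : ∀ e : E, σ (e * σ e) = e * σ e := fun e => by
      have hmul : σ (e * σ e) = σ e * σ (σ e) := Subtype.ext (by
        show z * ((e : G) * (z * (e : G) * z⁻¹)) * z⁻¹ = (z * (e : G) * z⁻¹) * (z * (z * (e : G) * z⁻¹) * z⁻¹)
        group)
      have hσσ : σ (σ e) = e := Subtype.ext (by
        show z * (z * (e : G) * z⁻¹) * z⁻¹ = (e : G)
        calc z * (z * (e : G) * z⁻¹) * z⁻¹ = (z * z) * (e : G) * (z * z)⁻¹ := by group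
          _ = e := by rw [c.setup.z_sq]; group)
      rw [hmul, hσσ, hcommE]
    have h4 : Nat.card E ≤ 4 := by
      classical
      haveI := Fintype.ofFinite E
      have hsub : (Finset.univ.image fun e : E => e * σ e) ⊆ {1, eb} := by
        intro v hv
        obtain ⟨e, -, rfl⟩ := Finset.mem_image.1 hv
        rcases hfix _ (hτ e) with h | h <;> rw [h] <;> simp
      have hfib : ∀ v ∈ (Finset.univ.image fun e : E => e * σ e),
          ((Finset.univ : Finset E).filter fun e => e * σ e = v).card ≤ 2 := by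
        intro v hv
        obtain ⟨e₁, -, rfl⟩ := Finset.mem_image.1 hv
        refine (Finset.card_le_card (t := {e₁, e₁ * eb}) fun e he => ?_).trans Finset.card_le_two
        have h := (Finset.mem_filter.1 he).2
        have hfe : σ (e₁ * e) = e₁ * e := by
          have hmul : σ (e₁ * e) = σ e₁ * σ e := Subtype.ext (by
            show z * ((e₁ : G) * (e : G)) * z⁻¹ = (z * (e₁ : G) * z⁻¹) * (z * (e : G) * z⁻¹)
            group)
          have h' : σ e = e * (e₁ * σ e₁) := by rw [← h, ← mul_assoc, hexp, one_mul]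
          calc σ (e₁ * e) = σ e₁ * (e * (e₁ * σ e₁)) := by rw [hmul, h']
            _ = (σ e₁ * σ e₁) * (e * e₁) := by rw [← mul_assoc e, ← mul_assoc, hcommE (σ e₁) (e * e₁), mul_assoc, hcommE (e * e₁)]
            _ = e₁ * e := by rw [hexp, one_mul, hcommE]
        rcases hfix _ hfe with h1 | h1
        · have : e = e₁ := by
            have := eq_inv_of_mul_eq_one_right h1
            rwa [inv_of_sq (hexp _)] at this
          simp [this]
        · have : e = e₁ * eb := by rw [← h1, ← mul_assoc, hexp, one_mul]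
          simp [this]
      have h1 := Finset.card_le_mul_card_image (Finset.univ : Finset E) 2 hfib
      have h2 := (Finset.card_le_card hsub).trans Finset.card_le_two
      rw [Finset.card_univ, ← Nat.card_eq_fintype_card] at h1
      omega
    have := two_le_D c
    omega

theorem psl_case (hlt : Nat.card D + 1 < Nat.card M) :
    ∃ (F : Type) (_ : Field F) (_ : Fintype F) (p : ℕ) (_ : Fact p.Prime) (_ : CharP F p) (f : ℕ),
      Fintype.card F = p ^ f ∧ Nat.card M = p ^ f ∧ Fintype.card F % 4 = 1 ∧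
        Nat.card M = 2 * Nat.card D + 1 ∧
        Nonempty (G ≃* Matrix.ProjectiveSpecialLinearGroup (Fin 2) F) := by
  classical
  haveI := Fintype.ofFinite (G ⧸ N)
  have hZ := zassenhaus c hlt
  have hab := base_ne c
  have hn : Fintype.card (G ⧸ N) = Nat.card M + 1 := by rw [← Nat.card_eq_fintype_card, card_points c]
  have hd := Perm.zass_card_two_stab_dvd hZ hab
  rw [pair_stab c, hn] at hd
  obtain ⟨k, hk⟩ := hd
  obtain ⟨hD2, hDe⟩ := two_le_D c
  have hk2 : 2 ≤ k := by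
    by_contra hcon
    interval_cases k <;> omega
  have hhalf : 2 * Nat.card D ≤ Fintype.card (G ⧸ N) - 2 := by
    rw [hn, hk, mul_comm 2]
    exact Nat.mul_le_mul_left _ hk2
  obtain ⟨p, f, F, iF, iFt, hp, hp2, hF, hΩ, ⟨e⟩⟩ := Perm.iso_psl_of_half hZ hab
    (by rw [pair_stab c]; exact hDe) (by rw [pair_stab c]; exact hhalf)
  haveI := Fact.mk hp
  have hchar : CharP F p := charP_of_card_eq_prime_pow (f := f) hF
  have hM : Nat.card M = p ^ f := by omega
  have hodd : Odd (p ^ f) := (hp.odd_of_ne_two hp2).pow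
  have hps := Classical.Two.card_PSL_two (F := F)
  rw [hF, ← Nat.card_congr e.toEquiv, card_G c, hM] at hps
  have hg : Nat.gcd 2 (p ^ f - 1) = 2 := by
    obtain ⟨j, hj⟩ := hodd
    rw [hj]
    exact Nat.gcd_eq_left ⟨j, by omega⟩
  rw [hg] at hps
  have hq : 2 * Nat.card D + 1 = p ^ f := by
    have hpos : 0 < p ^ f := pow_pos hp.pos f
    have h1 : (p ^ f) ^ 2 - 1 = (p ^ f + 1) * (p ^ f - 1) := by
      rw [← Nat.sq_sub_sq, one_pow]
    rw [h1] at hps
    have h2 : (p ^ f * (p ^ f + 1)) * (2 * Nat.card D) = (p ^ f * (p ^ f + 1)) * (p ^ f - 1) := by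
      calc _ = 2 * (p ^ f * Nat.card D * (p ^ f + 1)) := by ring
        _ = _ := by rw [hps]; ring
    have := Nat.eq_of_mul_eq_mul_left (Nat.mul_pos hpos (Nat.succ_pos _)) h2
    omega
  obtain ⟨j, hj⟩ := hDe
  exact ⟨F, iF, iFt, p, Fact.mk hp, hchar, f, hF, hM, by omega, by omega, ⟨e⟩⟩

theorem conclusion :
    ∃ (F : Type) (_ : Field F) (_ : Fintype F) (p : ℕ) (_ : Fact p.Prime) (_ : CharP F p),
      Fintype.card F = Nat.card M ∧ Cfsg.IsElementaryAbelian p M ∧
        (Nonempty (G ≃* (GL (Fin 2) F ⧸ Subgroup.center (GL (Fin 2) F))) ∨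
         (Fintype.card F % 4 = 1 ∧ Nonempty (G ≃* Matrix.ProjectiveSpecialLinearGroup (Fin 2) F))) := by
  have hle : Nat.card D + 1 ≤ Nat.card M := card_D_lt c le_rfl
    (fun d hd x hx => (Subgroup.mem_normalizer_iff.1 (Subgroup.mem_inf.1 hd).1 x).1 hx) c.setup.ne_bot
  rcases hle.eq_or_lt with h | h
  · obtain ⟨p, f, hp, hM, he⟩ := pgl_case c h
    have hf : f ≠ 0 := fun e => by
      have := three_le c
      rw [hM, e] at this
      simp at this
    letI := Fintype.ofFinite (GaloisField p f)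
    refine ⟨GaloisField p f, inferInstance, inferInstance, p, hp, inferInstance, ?_,
      elementary c hM (by omega), Or.inl he⟩
    rw [← Nat.card_eq_fintype_card, GaloisField.card p f hf, hM]
  · obtain ⟨F, iF, iFt, p, hp, hchar, f, hF, hM, h4, hMD, he⟩ := psl_case c h
    exact ⟨F, iF, iFt, p, hp, hchar, hF.trans hM.symm, elementary c hM (by omega), Or.inr ⟨h4, he⟩⟩

end TwoCase

end CfsgLib.LocalEvenB.TICount
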